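import Cfsg.Agent.Lib.SylJ2Type51.Facts

/-!
# A subgroup parametrised by the model (S3199)

`SylData S φ` says that `φ` is an isomorphism of the model onto `S`.  The facts checked on the 128
indices become statements about `S`, its extraspecial subgroup `Q` of order 32 and `R = C_S(v₀)`.
-/

set_option autoImplicit false
set_option linter.unusedSectionVars false
set_option linter.style.haveILetI false

namespace Cfsg.Agent.Lib.SylJ2Type51

open Cfsg.Agent.Lib.CosetEnum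

theorem below_iff {n : ℕ} {p : ℕ → Bool} : allBelow n p = true ↔ ∀ x < n, p x = true := allBelow_iff

variable {G : Type*} [Group G]

/-- `φ` is an isomorphism of the model onto `S`. -/
structure SylData (S : Subgroup G) (φ : ℕ → G) : Prop where
  mem : ∀ x < 128, φ x ∈ S
  surj : ∀ g ∈ S, ∃ x < 128, φ x = g
  inj : ∀ x < 128, ∀ y < 128, φ x = φ y → x = y
  map_mul : ∀ x < 128, ∀ y < 128, φ (mul x y) = φ x * φ y

/-- The extraspecial subgroup. -/
def qSub (φ : ℕ → G) : Subgroup G := Subgroup.closure (φ '' {x | x < 32})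

/-- The centraliser of `v₀` in the Sylow subgroup. -/
def rSub (φ : ℕ → G) : Subgroup G := Subgroup.closure (φ '' {x | x < 128 ∧ inR x = true})

/-- The five points. -/
def pts (φ : ℕ → G) : Fin 5 → G := fun i => φ (![2, 4, 8, 16, 30] i)

/-- The subgroup generated by the central involution, as a predicate. -/
def InZ (φ : ℕ → G) (g : G) : Prop := g = 1 ∨ g = φ 1

theorem countP_range (n : ℕ) (p : ℕ → Bool) :
    ((Finset.range n).filter fun y => p y = true).card = (List.range n).countP p := by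
  induction n with
  | zero => simp
  | succ n ih =>
    rw [List.range_succ, List.countP_append, ← ih, Finset.range_add_one, Finset.filter_insert]
    cases hp : p n <;> simp [hp]

theorem mul_lt {x y : ℕ} (hx : x < 128) (hy : y < 128) : mul x y < 128 := by
  have h := below_iff.1 (below_iff.1 mul_closed x hx) y hy
  simp only [Bool.and_eq_true, Nat.blt_eq] at h
  exact h.1.1

theorem inv_lt {x : ℕ} (hx : x < 128) : inv x < 128 := by
  have h := below_iff.1 inv_spec x hx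
  simp only [Bool.and_eq_true, Nat.blt_eq] at h
  exact h.1.1.1.1

theorem com_lt {x y : ℕ} (hx : x < 128) (hy : y < 128) : com x y < 128 :=
  mul_lt (mul_lt (mul_lt hx hy) (inv_lt hx)) (inv_lt hy)

theorem cj_lt {x y : ℕ} (hx : x < 128) (hy : y < 128) : cj x y < 128 :=
  mul_lt (mul_lt hx hy) (inv_lt hx)

theorem pair_lt (w i : ℕ) : (pair w i).1 < 128 ∧ (pair w i).2 < 128 :=
  ⟨Nat.mod_lt _ (by norm_num), Nat.mod_lt _ (by norm_num)⟩

namespace SylData

variable {S : Subgroup G} {φ : ℕ → G} (h : SylData S φ)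
include h

theorem map_zero : φ 0 = 1 := by
  have h1 := h.map_mul 0 (by norm_num) 0 (by norm_num)
  rw [show mul 0 0 = 0 by decide +kernel] at h1
  exact mul_eq_left.1 h1.symm

theorem map_inv {x : ℕ} (hx : x < 128) : φ (inv x) = (φ x)⁻¹ := by
  refine eq_inv_of_mul_eq_one_right ?_
  have h1 := below_iff.1 inv_spec x hx
  simp only [Bool.and_eq_true, Nat.beq_eq] at h1
  rw [← h.map_mul x hx _ (inv_lt hx), h1.1.1.1.2, h.map_zero]

theorem map_com {x y : ℕ} (hx : x < 128) (hy : y < 128) :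
    φ (com x y) = φ x * φ y * (φ x)⁻¹ * (φ y)⁻¹ := by
  rw [com, h.map_mul _ (mul_lt (mul_lt hx hy) (inv_lt hx)) _ (inv_lt hy),
    h.map_mul _ (mul_lt hx hy) _ (inv_lt hx), h.map_mul x hx y hy, h.map_inv hx, h.map_inv hy]

theorem map_cj {x y : ℕ} (hx : x < 128) (hy : y < 128) : φ (cj x y) = φ x * φ y * (φ x)⁻¹ := by
  rw [cj, h.map_mul _ (mul_lt hx hy) _ (inv_lt hx), h.map_mul x hx y hy, h.map_inv hx]

theorem commute_iff {x y : ℕ} (hx : x < 128) (hy : y < 128) :
    φ x * φ y = φ y * φ x ↔ com x y = 0 := by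
  constructor
  · intro e
    refine h.inj _ (com_lt hx hy) 0 (by norm_num) ?_
    rw [h.map_com hx hy, h.map_zero, e, mul_inv_cancel_right, mul_inv_cancel]
  · intro e
    have h1 := h.map_com hx hy
    rw [e, h.map_zero, eq_comm, mul_inv_eq_one, mul_inv_eq_iff_eq_mul] at h1
    exact h1

theorem inZ_iff {x : ℕ} (hx : x < 128) : InZ φ (φ x) ↔ inZ x = true := by
  simp only [InZ, inZ, Nat.blt_eq]
  constructor
  · rintro (e | e)
    · rw [← h.map_zero] at e; rw [h.inj x hx 0 (by norm_num) e]; norm_num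
    · rw [h.inj x hx 1 (by norm_num) e]; norm_num
  · intro hx2
    interval_cases x
    · exact Or.inl h.map_zero
    · exact Or.inr rfl

theorem mem_qSub_iff {g : G} : g ∈ qSub φ ↔ ∃ x < 32, φ x = g := by
  refine ⟨fun hg => ?_, fun ⟨x, hx, e⟩ => Subgroup.subset_closure ⟨x, hx, e⟩⟩
  induction hg using Subgroup.closure_induction with
  | mem g hg => obtain ⟨x, hx, e⟩ := hg; exact ⟨x, hx, e⟩
  | one => exact ⟨0, by norm_num, h.map_zero⟩
  | mul a b _ _ ha hb =>
    obtain ⟨x, hx, rfl⟩ := ha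
    obtain ⟨y, hy, rfl⟩ := hb
    have h1 := below_iff.1 (below_iff.1 mul_closed x (by omega)) y (by omega)
    simp only [inQ, Bool.and_eq_true, Bool.or_eq_true, Bool.not_eq_true', Nat.blt_eq] at h1
    refine ⟨mul x y, ?_, h.map_mul x (by omega) y (by omega)⟩
    rcases h1.1.2 with e | e
    · simp [Bool.and_eq_false_iff, ← Bool.not_eq_true, Nat.blt_eq, hx, hy] at e
    · exact e
  | inv a _ ha =>
    obtain ⟨x, hx, rfl⟩ := ha
    have h1 := below_iff.1 inv_spec x (by omega)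
    simp only [inQ, Bool.and_eq_true, Bool.or_eq_true, Bool.not_eq_true', Nat.blt_eq] at h1
    refine ⟨inv x, ?_, h.map_inv (by omega)⟩
    rcases h1.1.2 with e | e
    · simp [← Bool.not_eq_true, Nat.blt_eq, hx] at e
    · exact e

theorem mem_rSub_iff {g : G} : g ∈ rSub φ ↔ ∃ x < 128, inR x = true ∧ φ x = g := by
  refine ⟨fun hg => ?_, fun ⟨x, hx, hr, e⟩ => Subgroup.subset_closure ⟨x, ⟨hx, hr⟩, e⟩⟩
  induction hg using Subgroup.closure_induction with
  | mem g hg => obtain ⟨x, ⟨hx, hr⟩, e⟩ := hg; exact ⟨x, hx, hr, e⟩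
  | one => exact ⟨0, by norm_num, by decide +kernel, h.map_zero⟩
  | mul a b _ _ ha hb =>
    obtain ⟨x, hx, hrx, rfl⟩ := ha
    obtain ⟨y, hy, hry, rfl⟩ := hb
    have h1 := below_iff.1 (below_iff.1 mul_closed x hx) y hy
    simp only [Bool.and_eq_true, Bool.or_eq_true, Bool.not_eq_true'] at h1
    refine ⟨mul x y, mul_lt hx hy, ?_, h.map_mul x hx y hy⟩
    rcases h1.2 with e | e
    · simp [hrx, hry] at e
    · exact e
  | inv a _ ha =>
    obtain ⟨x, hx, hrx, rfl⟩ := ha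
    have h1 := below_iff.1 inv_spec x hx
    simp only [Bool.and_eq_true, Bool.or_eq_true, Bool.not_eq_true'] at h1
    refine ⟨inv x, inv_lt hx, ?_, h.map_inv hx⟩
    rcases h1.2 with e | e
    · simp [hrx] at e
    · exact e

theorem mem_qSub_index {x : ℕ} (hx : x < 128) : φ x ∈ qSub φ ↔ inQ x = true := by
  rw [h.mem_qSub_iff, inQ, Nat.blt_eq]
  exact ⟨fun ⟨y, hy, e⟩ => h.inj y (by omega) x hx e ▸ hy, fun hq => ⟨x, hq, rfl⟩⟩

theorem mem_rSub_index {x : ℕ} (hx : x < 128) : φ x ∈ rSub φ ↔ inR x = true := by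
  rw [h.mem_rSub_iff]
  exact ⟨fun ⟨y, hy, hr, e⟩ => h.inj y hy x hx e ▸ hr, fun hr => ⟨x, hx, hr, rfl⟩⟩

theorem qSub_le : qSub φ ≤ S := fun g hg => by
  obtain ⟨x, hx, rfl⟩ := h.mem_qSub_iff.1 hg
  exact h.mem x (by omega)

theorem rSub_le : rSub φ ≤ S := fun g hg => by
  obtain ⟨x, hx, -, rfl⟩ := h.mem_rSub_iff.1 hg
  exact h.mem x hx

theorem z_mem : φ 1 ∈ qSub φ := h.mem_qSub_iff.2 ⟨1, by norm_num, rfl⟩

theorem z_ne : φ 1 ≠ 1 := fun e => by
  have := h.inj 1 (by norm_num) 0 (by norm_num) (e.trans h.map_zero.symm)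
  omega

theorem z_sq : φ 1 * φ 1 = 1 := by
  rw [← h.map_mul 1 (by norm_num) 1 (by norm_num), show mul 1 1 = 0 by decide +kernel, h.map_zero]

theorem z_comm {s : G} (hs : s ∈ S) : s * φ 1 = φ 1 * s := by
  obtain ⟨x, hx, rfl⟩ := h.surj s hs
  refine (h.commute_iff hx (by norm_num)).2 ?_
  exact Nat.eq_of_beq_eq_true (below_iff.1 z_central x hx)

theorem inZ_mem {g : G} (hg : InZ φ g) : g ∈ qSub φ := by
  rcases hg with rfl | rfl
  exacts [one_mem _, h.z_mem]

/-- The centre of `S`. -/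
theorem center {s : G} (hs : s ∈ S) (hc : ∀ t ∈ S, s * t = t * s) : InZ φ s := by
  obtain ⟨x, hx, rfl⟩ := h.surj s hs
  rw [h.inZ_iff hx]
  have h1 := below_iff.1 center_spec x hx
  rw [Bool.or_eq_true, List.any_eq_true] at h1
  rcases h1 with e | ⟨g, hg, hg'⟩
  · exact e
  · have hg128 : g < 128 := by simp at hg; omega
    rw [(h.commute_iff hx hg128).1 (hc _ (h.mem g hg128))] at hg'
    simp at hg'

/-- Commutators of `S`. -/
theorem comm_mem {a b : G} (ha : a ∈ S) (hb : b ∈ S) :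
    a * b * a⁻¹ * b⁻¹ ∈ qSub φ ∧ a * b * a⁻¹ * b⁻¹ ∈ rSub φ := by
  obtain ⟨x, hx, rfl⟩ := h.surj a ha
  obtain ⟨y, hy, rfl⟩ := h.surj b hb
  have h1 := below_iff.1 (below_iff.1 com_spec x hx) y hy
  rw [Bool.and_eq_true] at h1
  rw [← h.map_com hx hy, h.mem_qSub_index (com_lt hx hy), h.mem_rSub_index (com_lt hx hy)]
  exact h1

/-- `Q` is normal in `S`. -/
theorem conj_q {s q : G} (hs : s ∈ S) (hq : q ∈ qSub φ) : s * q * s⁻¹ ∈ qSub φ := by
  have := mul_mem (h.comm_mem hs (h.qSub_le hq)).1 hq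
  rwa [inv_mul_cancel_right] at this

/-- `R` is normal in `S`. -/
theorem conj_r {s r : G} (hs : s ∈ S) (hr : r ∈ rSub φ) : s * r * s⁻¹ ∈ rSub φ := by
  have := mul_mem (h.comm_mem hs (h.rSub_le hr)).2 hr
  rwa [inv_mul_cancel_right] at this

/-- `R` is the centraliser of `v₀`. -/
theorem mem_rSub {s : G} (hs : s ∈ S) : s ∈ rSub φ ↔ s * φ 2 = φ 2 * s := by
  obtain ⟨x, hx, rfl⟩ := h.surj s hs
  rw [h.mem_rSub_index hx, h.commute_iff hx (by norm_num)]
  have h1 := below_iff.1 r_spec x hx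
  rw [beq_iff_eq] at h1
  rw [h1, Nat.beq_eq]

theorem q_sq {q : G} (hq : q ∈ qSub φ) : InZ φ (q * q) := by
  obtain ⟨x, hx, rfl⟩ := h.mem_qSub_iff.1 hq
  have h1 := below_iff.1 q_spec x hx
  rw [Bool.and_eq_true] at h1
  rw [← h.map_mul x (by omega) x (by omega), h.inZ_iff (mul_lt (by omega) (by omega))]
  exact h1.1

theorem q_comm {a b : G} (ha : a ∈ qSub φ) (hb : b ∈ qSub φ) : InZ φ (a * b * a⁻¹ * b⁻¹) := by
  obtain ⟨x, hx, rfl⟩ := h.mem_qSub_iff.1 ha
  obtain ⟨y, hy, rfl⟩ := h.mem_qSub_iff.1 hb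
  have h1 := below_iff.1 q_spec x hx
  rw [Bool.and_eq_true] at h1
  rw [← h.map_com (by omega) (by omega), h.inZ_iff (com_lt (by omega) (by omega))]
  exact below_iff.1 h1.2 y hy

theorem cent_q {s : G} (hs : s ∈ S) (hc : ∀ q ∈ qSub φ, s * q = q * s) : InZ φ s := by
  obtain ⟨x, hx, rfl⟩ := h.surj s hs
  rw [h.inZ_iff hx]
  have h1 := below_iff.1 q_center x hx
  rw [Bool.or_eq_true, List.any_eq_true] at h1
  rcases h1 with e | ⟨g, hg, hg'⟩
  · exact e
  · have hg32 : g < 32 := by simp at hg; omega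
    rw [(h.commute_iff hx (by omega)).1 (hc _ (h.mem_qSub_iff.2 ⟨g, hg32, rfl⟩))] at hg'
    simp at hg'

/-- Elements outside `Q` with central square. -/
theorem out {g : G} (hg : g ∈ S) (hgQ : g ∉ qSub φ) (hg2 : InZ φ (g * g)) :
    g * g = 1 ∧ g ∈ rSub φ ∧ ∃ a ∈ S, ∃ b ∈ S, InZ φ (g * a * g⁻¹ * a⁻¹) ∧
      InZ φ (g * b * g⁻¹ * b⁻¹) ∧ (a * b * a⁻¹ * b⁻¹ = φ 2 ∨ a * b * a⁻¹ * b⁻¹ = φ 3) := by
  obtain ⟨x, hx, rfl⟩ := h.surj g hg
  have hout : isOut x = true := by
    rw [isOut, Bool.and_eq_true, Bool.not_eq_true']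
    refine ⟨?_, ?_⟩
    · rw [← Bool.not_eq_true]; exact fun e => hgQ ((h.mem_qSub_index hx).2 e)
    · rwa [← h.map_mul x hx x hx, h.inZ_iff (mul_lt hx hx)] at hg2
  have h1 := below_iff.1 out_spec x hx
  simp only [hout, Bool.not_true, Bool.false_or, Bool.and_eq_true, Nat.beq_eq] at h1
  obtain ⟨⟨⟨hsq, hr⟩, -⟩, ⟨⟨ha, hb⟩, hw⟩, hnz⟩ := h1
  obtain ⟨la, lb⟩ := pair_lt outWit (x - 32)
  refine ⟨?_, (h.mem_rSub_index hx).2 hr, _, h.mem _ la, _, h.mem _ lb, ?_, ?_, ?_⟩
  · rw [← h.map_mul x hx x hx, hsq, h.map_zero]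
  · rw [← h.map_com hx la, h.inZ_iff (com_lt hx la)]; exact ha
  · rw [← h.map_com hx lb, h.inZ_iff (com_lt hx lb)]; exact hb
  · rw [← h.map_com la lb]
    simp only [inW, inZ, Nat.blt_eq, Bool.not_eq_true', ← Bool.not_eq_true] at hw hnz
    rcases (by omega : com (pair outWit (x - 32)).1 (pair outWit (x - 32)).2 = 2 ∨
      com (pair outWit (x - 32)).1 (pair outWit (x - 32)).2 = 3) with e | e
    · exact Or.inl (by rw [e])
    · exact Or.inr (by rw [e])

theorem two_not_inZ : ¬ InZ φ (φ 2) ∧ ¬ InZ φ (φ 3) := by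
  rw [h.inZ_iff (by norm_num), h.inZ_iff (by norm_num)]
  decide +kernel

/-- `Q` is the only subgroup of `S` of order 32 whose squares and commutators are central. -/
theorem eq_qSub {P : Subgroup G} (hP : P ≤ S) (hcard : Nat.card ↥P = 32)
    (hsq : ∀ a ∈ P, InZ φ (a * a)) (hcom : ∀ a ∈ P, ∀ b ∈ P, InZ φ (a * b * a⁻¹ * b⁻¹))
    (hQcard : Nat.card ↥(qSub φ) = 32) : P = qSub φ := by
  classical
  haveI : Finite ↥P := Nat.finite_of_card_ne_zero (by omega)
  haveI : Finite ↥(qSub φ) := Nat.finite_of_card_ne_zero (by omega)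
  by_contra hne
  obtain ⟨g, hgP, hgQ⟩ := SetLike.not_le_iff_exists.1 fun hle =>
    hne (Subgroup.eq_of_le_of_card_ge hle (by rw [hcard, hQcard]))
  obtain ⟨x, hx, rfl⟩ := h.surj g (hP hgP)
  have hout : isOut x = true := by
    rw [isOut, Bool.and_eq_true, Bool.not_eq_true']
    refine ⟨?_, ?_⟩
    · rw [← Bool.not_eq_true]; exact fun e => hgQ ((h.mem_qSub_index hx).2 e)
    · have := hsq _ hgP
      rwa [← h.map_mul x hx x hx, h.inZ_iff (mul_lt hx hx)] at this
  have h1 := below_iff.1 out_spec x hx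
  simp only [hout, Bool.not_true, Bool.false_or, Bool.and_eq_true, Nat.beq_eq] at h1
  obtain ⟨⟨-, hcount⟩, ⟨⟨ha, hb⟩, hw⟩, hnz⟩ := h1
  obtain ⟨la, lb⟩ := pair_lt outWit (x - 32)
  -- the indices of `P` are the thirty-two indices commuting with `x` modulo the centre
  set s := (Finset.range 128).filter fun y => inZ (com x y) = true with hs
  set t := (Finset.range 128).filter fun y => φ y ∈ P with ht
  have hts : t ⊆ s := by
    intro y hy
    rw [ht, Finset.mem_filter, Finset.mem_range] at hy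
    rw [hs, Finset.mem_filter, Finset.mem_range]
    refine ⟨hy.1, ?_⟩
    rw [← h.inZ_iff (com_lt hx hy.1), h.map_com hx hy.1]
    exact hcom _ hgP _ hy.2
  have htcard : t.card = 32 := by
    rw [← hcard, ← Nat.card_eq_finsetCard t]
    refine Nat.card_congr (Equiv.ofBijective
      (fun y : ↥t => (⟨φ y.1, (Finset.mem_filter.1 y.2).2⟩ : ↥P)) ⟨fun y y' e => Subtype.ext ?_, ?_⟩)
    · exact h.inj _ (Finset.mem_range.1 (Finset.mem_filter.1 y.2).1) _
        (Finset.mem_range.1 (Finset.mem_filter.1 y'.2).1) (congrArg Subtype.val e)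
    · rintro ⟨p, hp⟩
      obtain ⟨y, hy, rfl⟩ := h.surj p (hP hp)
      exact ⟨⟨y, Finset.mem_filter.2 ⟨Finset.mem_range.2 hy, hp⟩⟩, rfl⟩
  have hst : t = s := Finset.eq_of_subset_of_card_le hts (by
    rw [htcard, hs, countP_range, hcount])
  have hab : ∀ y, y < 128 → inZ (com x y) = true → φ y ∈ P := fun y hy hz => by
    have : y ∈ t := hst ▸ Finset.mem_filter.2 ⟨Finset.mem_range.2 hy, hz⟩
    exact (Finset.mem_filter.1 this).2
  have hc := hcom _ (hab _ la ha) _ (hab _ lb hb)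
  rw [← h.map_com la lb, h.inZ_iff (com_lt la lb)] at hc
  simp [hc] at hnz

theorem card_S : Nat.card ↥S = 128 := by
  rw [← Nat.card_fin 128]
  refine (Nat.card_congr (Equiv.ofBijective
    (fun i : Fin 128 => (⟨φ i.1, h.mem _ i.2⟩ : ↥S)) ⟨fun i j e => Fin.ext ?_, ?_⟩)).symm
  · exact h.inj _ i.2 _ j.2 (congrArg Subtype.val e)
  · rintro ⟨g, hg⟩
    obtain ⟨x, hx, rfl⟩ := h.surj g hg
    exact ⟨⟨x, hx⟩, rfl⟩

theorem card_qSub : Nat.card ↥(qSub φ) = 32 := by
  rw [← Nat.card_fin 32]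
  refine (Nat.card_congr (Equiv.ofBijective
    (fun i : Fin 32 => (⟨φ i.1, h.mem_qSub_iff.2 ⟨i.1, i.2, rfl⟩⟩ : ↥(qSub φ)))
    ⟨fun i j e => Fin.ext ?_, ?_⟩)).symm
  · exact h.inj _ (by omega) _ (by omega) (congrArg Subtype.val e)
  · rintro ⟨g, hg⟩
    obtain ⟨x, hx, rfl⟩ := h.mem_qSub_iff.1 hg
    exact ⟨⟨x, hx⟩, rfl⟩

theorem pts_mem (i : Fin 5) : pts φ i ∈ qSub φ :=
  h.mem_qSub_iff.2 ⟨_, by fin_cases i <;> decide, rfl⟩

/-- The involutions of `Q`: the centre and the five pairs. -/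
theorem singular {q : G} (hq : q ∈ qSub φ) (h2 : q * q = 1) :
    InZ φ q ∨ ∃ i, q = pts φ i ∨ q = pts φ i * φ 1 := by
  obtain ⟨x, hx, rfl⟩ := h.mem_qSub_iff.1 hq
  have h1 := below_iff.1 singular_spec x hx
  rw [← h.map_mul x (by omega) x (by omega), ← h.map_zero] at h2
  rw [h.inj _ (mul_lt (by omega) (by omega)) 0 (by norm_num) h2] at h1
  simp only [Nat.beq_refl, Bool.not_true, Bool.false_or, List.any_cons, List.any_nil,
    Bool.or_false, Bool.or_eq_true, Nat.beq_eq] at h1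
  have hz : ∀ k < 128, φ k * φ 1 = φ (mul k 1) := fun k hk => (h.map_mul k hk 1 (by norm_num)).symm
  rcases h1 with e | e | e | e | e | e | e | e | e | e | e | e
  all_goals subst e
  · exact Or.inl (Or.inl h.map_zero)
  · exact Or.inl (Or.inr rfl)
  · exact Or.inr ⟨0, Or.inl rfl⟩
  · exact Or.inr ⟨0, Or.inr ((hz 2 (by norm_num)).trans (congrArg φ (by decide +kernel))).symm⟩
  · exact Or.inr ⟨1, Or.inl rfl⟩
  · exact Or.inr ⟨1, Or.inr ((hz 4 (by norm_num)).trans (congrArg φ (by decide +kernel))).symm⟩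
  · exact Or.inr ⟨2, Or.inl rfl⟩
  · exact Or.inr ⟨2, Or.inr ((hz 8 (by norm_num)).trans (congrArg φ (by decide +kernel))).symm⟩
  · exact Or.inr ⟨3, Or.inl rfl⟩
  · exact Or.inr ⟨3, Or.inr ((hz 16 (by norm_num)).trans (congrArg φ (by decide +kernel))).symm⟩
  · exact Or.inr ⟨4, Or.inl rfl⟩
  · exact Or.inr ⟨4, Or.inr ((hz 30 (by norm_num)).trans (congrArg φ (by decide +kernel))).symm⟩

/-- The involutions of `Q ∩ R` lie in `⟨z, v₀⟩`. -/
theorem invol_qr {q : G} (hq : q ∈ qSub φ) (hr : q ∈ rSub φ) (h2 : q * q = 1) :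
    InZ φ q ∨ q = φ 2 ∨ q = φ 3 := by
  rcases h.singular hq h2 with hz | ⟨i, hi⟩
  · exact Or.inl hz
  have h3 : φ 3 = φ 2 * φ 1 := by
    rw [← h.map_mul 2 (by norm_num) 1 (by norm_num)]
    exact congrArg φ (by decide +kernel)
  rw [h3]
  by_cases h0 : i = 0
  · subst h0
    exact Or.inr hi
  exfalso
  have key : ∀ j : Fin 5, j ≠ 0 → inR (![2, 4, 8, 16, 30] j) = false := by decide +kernel
  have hlt : ∀ j : Fin 5, ![2, 4, 8, 16, 30] j < 128 := by decide +kernel
  have hzR : φ 1 ∈ rSub φ := (h.mem_rSub_index (by norm_num)).2 (by decide +kernel)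
  have hiR : pts φ i ∈ rSub φ := by
    rcases hi with e | e
    · exact e ▸ hr
    · have := mul_mem (e ▸ hr) hzR
      rwa [mul_assoc, h.z_sq, mul_one] at this
  have := (h.mem_rSub_index (hlt i)).1 hiR
  rw [key i h0] at this
  exact Bool.false_ne_true this

/-- An involution of `Q` outside `R`. -/
theorem side {u : G} (hu : u ∈ qSub φ) (huR : u ∉ rSub φ) (h2 : u * u = 1) :
    (∃ a ∈ qSub φ, ∃ b ∈ qSub φ, u * a = a * u ∧ u * b = b * u ∧ a * b * a⁻¹ * b⁻¹ = φ 1) ∧
      ¬ ∃ f : Fin 16 → G, Function.Injective f ∧ (∀ i, f i ∈ S ∧ u * f i = f i * u) ∧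
        ∀ i j, f i * f j = f j * f i := by
  classical
  obtain ⟨x, hx, rfl⟩ := h.mem_qSub_iff.1 hu
  have hs : isSide x = true := by
    rw [isSide, Bool.and_eq_true, Bool.and_eq_true, Bool.not_eq_true', Nat.beq_eq]
    refine ⟨⟨(h.mem_qSub_index (by omega)).1 hu, ?_⟩, ?_⟩
    · rw [← Bool.not_eq_true]; exact fun e => huR ((h.mem_rSub_index (by omega)).2 e)
    · rw [← h.map_mul x (by omega) x (by omega), ← h.map_zero] at h2
      exact h.inj _ (mul_lt (by omega) (by omega)) 0 (by norm_num) h2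
  have h1 := below_iff.1 side_spec x (by omega)
  simp only [hs, Bool.not_true, Bool.false_or, Bool.and_eq_true, Nat.beq_eq] at h1
  obtain ⟨hcount, ⟨⟨⟨ha, hb⟩, hca⟩, hcb⟩, hab⟩ := h1
  obtain ⟨la, lb⟩ := pair_lt sideWit x
  have haQ := (h.mem_qSub_index la).2 ha
  have hbQ := (h.mem_qSub_index lb).2 hb
  refine ⟨⟨_, haQ, _, hbQ, (h.commute_iff (by omega) la).2 hca, (h.commute_iff (by omega) lb).2 hcb,
    by rw [← h.map_com la lb, hab]⟩, ?_⟩
  rintro ⟨f, hinj, hf, hcomm⟩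
  choose k hk hkf using fun i => h.surj (f i) (hf i).1
  set s := (Finset.range 128).filter fun y => Nat.beq (com x y) 0 = true with hs'
  have himg : Finset.univ.image k = s := by
    refine Finset.eq_of_subset_of_card_le ?_ ?_
    · intro y hy
      obtain ⟨i, -, rfl⟩ := Finset.mem_image.1 hy
      refine Finset.mem_filter.2 ⟨Finset.mem_range.2 (hk i), ?_⟩
      rw [Nat.beq_eq, ← h.commute_iff (by omega) (hk i), hkf]
      exact (hf i).2
    · rw [Finset.card_image_of_injective _ fun i j e => hinj (by rw [← hkf i, ← hkf j, e]),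
        Finset.card_univ, Fintype.card_fin, hs', countP_range, hcount]
  have hget : ∀ y < 128, com x y = 0 → ∃ i, f i = φ y := fun y hy e => by
    have : y ∈ Finset.univ.image k :=
      himg ▸ Finset.mem_filter.2 ⟨Finset.mem_range.2 hy, by rw [Nat.beq_eq]; exact e⟩
    obtain ⟨i, -, rfl⟩ := Finset.mem_image.1 this
    exact ⟨i, (hkf i).symm⟩
  obtain ⟨i, hi⟩ := hget _ la hca
  obtain ⟨j, hj⟩ := hget _ lb hcb
  have e1 : φ 1 = 1 := by
    rw [← hab, h.map_com la lb, ← hi, ← hj, hcomm i j, mul_inv_cancel_right, mul_inv_cancel]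
  exact h.z_ne e1

/-- Each element outside `Q` with central square is one of sixteen commuting elements. -/
theorem out_six {g : G} (hg : g ∈ S) (hgQ : g ∉ qSub φ) (hg2 : InZ φ (g * g)) :
    ∃ f : Fin 16 → G, Function.Injective f ∧ (∀ i, f i ∈ rSub φ ∧ g * f i = f i * g) ∧
      ∀ i j, f i * f j = f j * f i := by
  obtain ⟨x, hx, rfl⟩ := h.surj g hg
  have hout : isOut x = true := by
    rw [isOut, Bool.and_eq_true, Bool.not_eq_true']
    refine ⟨?_, ?_⟩
    · rw [← Bool.not_eq_true]; exact fun e => hgQ ((h.mem_qSub_index hx).2 e)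
    · rwa [← h.map_mul x hx x hx, h.inZ_iff (mul_lt hx hx)] at hg2
  have h1 := below_iff.1 six_spec x hx
  simp only [hout, Bool.not_true, Bool.false_or, below_iff, Bool.and_eq_true, Bool.or_eq_true,
    Bool.not_eq_true', Nat.beq_eq] at h1
  have hl : ∀ k, six x k < 128 := fun k => Nat.mod_lt _ (by norm_num)
  refine ⟨fun i => φ (six x i), fun i j e => ?_,
    fun i => ⟨(h.mem_rSub_index (hl _)).2 (h1 i i.2).1.2, ?_⟩, fun i j => ?_⟩
  · have e' := h.inj _ (hl _) _ (hl _) e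
    rcases ((h1 i i.2).2 j j.2).2 with e'' | e''
    · exact Fin.ext e''
    · rw [← Bool.not_eq_true, Nat.beq_eq] at e''
      exact absurd e' e''
  · exact (h.commute_iff hx (hl _)).2 (h1 i i.2).1.1
  · exact (h.commute_iff (hl _) (hl _)).2 ((h1 i i.2).2 j j.2).1

/-- A conjugate of `R` inside `S` lies in `R`. -/
theorem conj_rSub {c : G} (hc : ∀ r ∈ rSub φ, c * r * c⁻¹ ∈ S) :
    ∀ r ∈ rSub φ, c * r * c⁻¹ ∈ rSub φ := by
  have hgen : ∀ k < 128, isOut k = true → c * φ k * c⁻¹ ∈ rSub φ := by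
    intro k hk hkout
    rw [isOut, Bool.and_eq_true, Bool.not_eq_true'] at hkout
    have hkQ : φ k ∉ qSub φ := fun e => by
      rw [(h.mem_qSub_index hk).1 e] at hkout; exact absurd hkout.1 (by simp)
    have hk2 : InZ φ (φ k * φ k) := by
      rw [← h.map_mul k hk k hk, h.inZ_iff (mul_lt hk hk)]; exact hkout.2
    obtain ⟨hsq, hkR, -⟩ := h.out (h.mem k hk) hkQ hk2
    set y := c * φ k * c⁻¹ with hy
    have hy2 : y * y = 1 := by
      rw [hy, show c * φ k * c⁻¹ * (c * φ k * c⁻¹) = c * (φ k * φ k) * c⁻¹ by group, hsq]; group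
    by_cases hyQ : y ∈ qSub φ
    · by_contra hyR
      obtain ⟨f, hfi, hf, hff⟩ := h.out_six (h.mem k hk) hkQ hk2
      refine (h.side hyQ hyR hy2).2 ⟨fun i => c * f i * c⁻¹, fun i j e => hfi ?_, fun i => ⟨?_, ?_⟩,
        fun i j => ?_⟩
      · exact mul_left_cancel (mul_right_cancel e)
      · exact hc _ (hf i).1
      · calc y * (c * f i * c⁻¹) = c * (φ k * f i) * c⁻¹ := by rw [hy]; group
          _ = c * (f i * φ k) * c⁻¹ := by rw [(hf i).2]
          _ = _ := by rw [hy]; group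
      · calc c * f i * c⁻¹ * (c * f j * c⁻¹) = c * (f i * f j) * c⁻¹ := by group
          _ = c * (f j * f i) * c⁻¹ := by rw [hff]
          _ = _ := by group
    · exact (h.out (hc _ hkR) hyQ (Or.inl hy2)).2.1
  intro r hr
  obtain ⟨y, hy, hyR, rfl⟩ := h.mem_rSub_iff.1 hr
  have h1 := below_iff.1 three_spec y hy
  simp only [hyR, Bool.not_true, Bool.false_or, below_iff, Bool.and_eq_true, Bool.or_eq_true,
    Nat.beq_eq] at h1
  have hl : ∀ k, three y k < 128 := fun k => Nat.mod_lt _ (by norm_num)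
  have hthree : ∀ k < 3, c * φ (three y k) * c⁻¹ ∈ rSub φ := by
    intro k hk
    rcases h1.1 k hk with e | e
    · rw [e, h.map_zero, mul_one, mul_inv_cancel]; exact one_mem _
    · exact hgen _ (hl k) e
  rw [← h1.2, h.map_mul _ (mul_lt (hl 0) (hl 1)) _ (hl 2), h.map_mul _ (hl 0) _ (hl 1),
    show c * (φ (three y 0) * φ (three y 1) * φ (three y 2)) * c⁻¹ =
      (c * φ (three y 0) * c⁻¹) * (c * φ (three y 1) * c⁻¹) * (c * φ (three y 2) * c⁻¹) by group]
  exact mul_mem (mul_mem (hthree 0 (by norm_num)) (hthree 1 (by norm_num))) (hthree 2 (by norm_num))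

/-- Signs on the five points are realised by conjugation in `Q`. -/
theorem exists_sign (s : Fin 4 → Bool) :
    ∃ q ∈ qSub φ, ∀ i : Fin 4, q * pts φ i.castSucc * q⁻¹ * (pts φ i.castSucc)⁻¹ =
      if s i then φ 1 else 1 := by
  have h1 := below_iff.1 sign_spec ((if s 0 then 1 else 0) + 2 * (if s 1 then 1 else 0) +
    4 * (if s 2 then 1 else 0) + 8 * (if s 3 then 1 else 0)) (by split_ifs <;> omega)
  rw [List.any_eq_true] at h1
  obtain ⟨q, hq, hq'⟩ := h1
  rw [List.mem_range] at hq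
  simp only [Bool.and_eq_true, Nat.beq_eq] at hq'
  have hbits : ∀ a b c d : Bool,
      let n := (if a then 1 else 0) + 2 * (if b then 1 else 0) + 4 * (if c then 1 else 0) +
        8 * (if d then 1 else 0)
      n % 2 = (if a then 1 else 0) ∧ (n >>> 1) % 2 = (if b then 1 else 0) ∧
        (n >>> 2) % 2 = (if c then 1 else 0) ∧ (n >>> 3) % 2 = (if d then 1 else 0) := by
    decide +kernel
  obtain ⟨b0, b1, b2, b3⟩ := hbits (s 0) (s 1) (s 2) (s 3)
  rw [b0, b1, b2, b3] at hq'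
  refine ⟨φ q, h.mem_qSub_iff.2 ⟨q, hq, rfl⟩, fun i => ?_⟩
  have hfin : ∀ k < 128, ∀ b : Bool, com q k = (if b then 1 else 0) →
      φ q * φ k * (φ q)⁻¹ * (φ k)⁻¹ = if b then φ 1 else 1 := fun k hk b e => by
    rw [← h.map_com (by omega) hk, e, apply_ite φ, h.map_zero]
  fin_cases i
  · exact hfin 2 (by norm_num) _ hq'.1.1.1
  · exact hfin 4 (by norm_num) _ hq'.1.1.2
  · exact hfin 8 (by norm_num) _ hq'.1.2
  · exact hfin 16 (by norm_num) _ hq'.2

end SylData

end Cfsg.Agent.Lib.SylJ2Type51
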