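import Cfsg.Agent.Lib.SylJ2Type51.Table

/-!
# Finite facts about the Sylow 2-subgroup of the Hall-Janko group (S3199)

All checks run over the 128 indices; existence statements come with witnesses.
-/

set_option autoImplicit false
set_option maxRecDepth 20000

namespace Cfsg.Agent.Lib.SylJ2Type51

open Cfsg.Agent.Lib.CosetEnum

/-- Witnesses `(a, b)` for the elements outside `Q` with central square. -/
def outWit : ℕ :=
  0x58616185861618000000000000000000000000000000000000000000000000000000000000000000000040610184061018000000000000000000000000000058516145851614000000000000000000000000000000000000000000000000000000004051014405101400000000000000000000000000000000000000000000000000000000a832a0ca832a0c0000000000000000000000000000803200c803200c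

/-- Witnesses `(a, b)` for the involutions of `Q` outside `R`. -/
def sideWit : ℕ :=
  0x1418506000000000000000000000000000000000000000000141850600000000000000000000024189060000000242890a00000000000000

/-- Sets of 16 commuting elements. -/
def sixteen : List ℕ := [
  0xc78b0e0870a0c046890a00608080,
  0xc78b0e0870a0c046890a00608080,
  0xc78b0e0870a0c046890a00608080,
  0xc78b0e0870a0c046890a00608080,
  0x0,
  0x0,
  0x0,
  0x0,
  0x0,
  0x0,
  0x0,
  0x0,
  0xf7ebcf8af5aad45eb96ac0608080,
  0xf7ebcf8af5aad45eb96ac0608080,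
  0xf7ebcf8af5aad45eb96ac0608080,
  0xf7ebcf8af5aad45eb96ac0608080,
  0x0,
  0x0,
  0x0,
  0x0,
  0x0,
  0x0,
  0x0,
  0x0,
  0x0,
  0x0,
  0x0,
  0x0,
  0x0,
  0x0,
  0x0,
  0x0,
  0xc78b0e0870a0c046890a00608080,
  0xc78b0e0870a0c046890a00608080,
  0xc78b0e0870a0c046890a00608080,
  0xc78b0e0870a0c046890a00608080,
  0x0,
  0x0,
  0x0,
  0x0,
  0x0,
  0x0,
  0x0,
  0x0,
  0x0,
  0x0,
  0x0,
  0x0,
  0x0,
  0x0,
  0x0,
  0x0,
  0xf7ebcf8af5aad45eb96ac0608080,
  0xf7ebcf8af5aad45eb96ac0608080,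
  0xf7ebcf8af5aad45eb96ac0608080,
  0xf7ebcf8af5aad45eb96ac0608080,
  0x0,
  0x0,
  0x0,
  0x0,
  0x0,
  0x0,
  0x0,
  0x0,
  0xc78b0e0870a0c046890a00608080,
  0xc78b0e0870a0c046890a00608080,
  0xc78b0e0870a0c046890a00608080,
  0xc78b0e0870a0c046890a00608080,
  0x0,
  0x0,
  0x0,
  0x0,
  0x0,
  0x0,
  0x0,
  0x0,
  0x0,
  0x0,
  0x0,
  0x0,
  0x0,
  0x0,
  0x0,
  0x0,
  0x0,
  0x0,
  0x0,
  0x0,
  0xf7ebcf8af5aad45eb96ac0608080,
  0xf7ebcf8af5aad45eb96ac0608080,
  0xf7ebcf8af5aad45eb96ac0608080,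
  0xf7ebcf8af5aad45eb96ac0608080,
  0x0,
  0x0,
  0x0,
  0x0]

/-- Elements of `R` as products of three elements of order at most two outside `Q`, or `1`. -/
def threeWit : List ℕ := [
  0x0,
  0x10a0,
  0x1120,
  0x11a0,
  0,
  0,
  0,
  0,
  0,
  0,
  0,
  0,
  0x16a0,
  0x1620,
  0x17a0,
  0x1720,
  0,
  0,
  0,
  0,
  0x2ac0,
  0x2a40,
  0x2bc0,
  0x2b40,
  0x3ce0,
  0x3c60,
  0x3de0,
  0x3d60,
  0,
  0,
  0,
  0,
  0x20,
  0x21,
  0x22,
  0x23,
  0,
  0,
  0,
  0,
  0,
  0,
  0,
  0,
  0x2c,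
  0x2d,
  0x2e,
  0x2f,
  0,
  0,
  0,
  0,
  0x3054,
  0x30d4,
  0x3154,
  0x31d4,
  0x3d40,
  0x3dc0,
  0x3c40,
  0x3cc0,
  0,
  0,
  0,
  0,
  0x40,
  0x41,
  0x42,
  0x43,
  0,
  0,
  0,
  0,
  0,
  0,
  0,
  0,
  0x302c,
  0x30ac,
  0x312c,
  0x31ac,
  0,
  0,
  0,
  0,
  0x54,
  0x55,
  0x56,
  0x57,
  0x3da0,
  0x3d20,
  0x3ca0,
  0x3c20,
  0,
  0,
  0,
  0,
  0x60,
  0x61,
  0x62,
  0x63,
  0,
  0,
  0,
  0,
  0,
  0,
  0,
  0,
  0x202c,
  0x20ac,
  0x212c,
  0x21ac,
  0,
  0,
  0,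
  0,
  0x2b20,
  0x2ba0,
  0x2a20,
  0x2aa0,
  0x78,
  0x79,
  0x7a,
  0x7b,
  0,
  0,
  0,
  0]

/-- The conjugate `x y x⁻¹`. -/
def cj (x y : ℕ) : ℕ := mul (mul x y) (inv x)

/-- The two witnesses packed at position `i`. -/
def pair (w i : ℕ) : ℕ × ℕ := ((w >>> (14 * i)) % 128, (w >>> (14 * i + 7)) % 128)

/-- An element outside `Q` with central square. -/
def isOut (x : ℕ) : Bool := !inQ x && inZ (mul x x)

/-- An involution of `Q` outside `R`. -/
def isSide (x : ℕ) : Bool := inQ x && !inR x && Nat.beq (mul x x) 0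

/-- The `k`-th of the sixteen commuting elements attached to `x`. -/
def six (x k : ℕ) : ℕ := ((sixteen.getD (x - 32) 0) >>> (7 * k)) % 128

/-- The `k`-th factor of an element of `R`. -/
def three (y k : ℕ) : ℕ := ((threeWit.getD y 0) >>> (7 * k)) % 128

theorem mul_closed :
    allBelow 128 (fun x => allBelow 128 fun y => Nat.blt (mul x y) 128 &&
      (!(inQ x && inQ y) || inQ (mul x y)) && (!(inR x && inR y) || inR (mul x y))) = true := by
  decide +kernel

theorem inv_spec :
    allBelow 128 (fun x => Nat.blt (inv x) 128 && Nat.beq (mul x (inv x)) 0 &&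
      Nat.beq (mul 0 x) x && (!inQ x || inQ (inv x)) && (!inR x || inR (inv x))) = true := by
  decide +kernel

theorem com_spec :
    allBelow 128 (fun x => allBelow 128 fun y => inQ (com x y) && inR (com x y)) = true := by
  decide +kernel

theorem center_spec :
    allBelow 128 (fun x => inZ x || [2, 4, 8, 16, 32, 64].any fun g => !Nat.beq (com x g) 0) = true := by
  decide +kernel

theorem z_central : allBelow 128 (fun x => Nat.beq (com x 1) 0) = true := by decide +kernel

theorem q_spec :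
    allBelow 32 (fun x => inZ (mul x x) && allBelow 32 fun y => inZ (com x y)) = true := by
  decide +kernel

theorem q_center :
    allBelow 128 (fun x => inZ x || [2, 4, 8, 16].any fun g => !Nat.beq (com x g) 0) = true := by
  decide +kernel

theorem r_spec :
    allBelow 128 (fun x => inR x == Nat.beq (com x 2) 0) = true := by decide +kernel

theorem out_spec :
    allBelow 128 (fun x => !isOut x ||
      Nat.beq (mul x x) 0 && inR x &&
      Nat.beq ((List.range 128).countP fun y => inZ (com x y)) 32 &&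
      (fun a b => inZ (com x a) && inZ (com x b) && inW (com a b) && !inZ (com a b))
        (pair outWit (x - 32)).1 (pair outWit (x - 32)).2) = true := by
  decide +kernel

theorem six_spec :
    allBelow 128 (fun x => !isOut x ||
      allBelow 16 fun i => Nat.beq (com x (six x i)) 0 && inR (six x i) &&
        allBelow 16 fun j => Nat.beq (com (six x i) (six x j)) 0 &&
          (Nat.beq i j || !Nat.beq (six x i) (six x j))) = true := by
  decide +kernel

theorem three_spec :
    allBelow 128 (fun y => !inR y ||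
      (allBelow 3 fun k => Nat.beq (three y k) 0 || isOut (three y k)) &&
        Nat.beq (mul (mul (three y 0) (three y 1)) (three y 2)) y) = true := by
  decide +kernel

theorem side_spec :
    allBelow 128 (fun x => !isSide x ||
      Nat.beq ((List.range 128).countP fun y => Nat.beq (com x y) 0) 16 &&
      (fun a b => inQ a && inQ b && Nat.beq (com x a) 0 && Nat.beq (com x b) 0 && Nat.beq (com a b) 1)
        (pair sideWit x).1 (pair sideWit x).2) = true := by
  decide +kernel

theorem singular_spec :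
    allBelow 32 (fun x => !Nat.beq (mul x x) 0 ||
      [0, 1, 2, 3, 4, 5, 8, 9, 16, 17, 30, 31].any fun i => Nat.beq x i) = true := by
  decide +kernel

theorem sign_spec :
    allBelow 16 (fun s => (List.range 32).any fun q =>
      Nat.beq (com q 2) (s % 2) && Nat.beq (com q 4) ((s >>> 1) % 2) &&
      Nat.beq (com q 8) ((s >>> 2) % 2) && Nat.beq (com q 16) ((s >>> 3) % 2)) = true := by
  decide +kernel

theorem vals :
    mul 32 32 = 0 ∧ mul 64 64 = 0 ∧ inv (mul (mul (mul 2 4) 8) 16) = 30 ∧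
    cj 32 2 = 2 ∧ cj 32 4 = 8 ∧ cj 32 8 = 4 ∧ cj 32 16 = 30 ∧
    cj 64 2 = 2 ∧ cj 64 4 = 16 ∧ cj 64 8 = 30 ∧ cj 64 16 = 4 := by
  decide +kernel

end Cfsg.Agent.Lib.SylJ2Type51
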