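import Cfsg.Agent.Lib.SylJ2Type51.Data
import Cfsg.Agent.Lib.DihedralPair.Transfer

/-!
# Fusion with a Sylow 2-subgroup of Hall-Janko type (S3199)

In `C(z)` no element outside `Q` with central square is conjugate into `Q`; with no subgroup of index
two some element of `C(z) ∩ N(Q)` moves the pair `{v₀, v₀ z}`.
-/

set_option autoImplicit false
set_option linter.unusedSectionVars false
set_option linter.style.haveILetI false

universe u

namespace Cfsg.Agent.Lib.SylJ2Type51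

open Subgroup Cfsg.Agent.Lib.CosetEnum

variable {G : Type u} [Group G]

theorem conj_pair {q z y : G} (hy : y * z = z * y) (hz : z * z = 1) {a : G}
    (ha : a = q ∨ a = q * z) (hq : y * q * y⁻¹ = q ∨ y * q * y⁻¹ = q * z) :
    y * a * y⁻¹ = q ∨ y * a * y⁻¹ = q * z := by
  have hz' : y * z * y⁻¹ = z := by rw [hy, mul_inv_cancel_right]
  rcases ha with rfl | rfl
  · exact hq
  · rw [show y * (q * z) * y⁻¹ = (y * q * y⁻¹) * (y * z * y⁻¹) by group, hz']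
    rcases hq with e | e <;> rw [e]
    · exact Or.inr rfl
    · left; rw [mul_assoc, hz, mul_one]

/-- The elements of `C(z)` centralising `q` modulo `⟨z⟩`. -/
def stab (z q : G) (hz : z * z = 1) : Subgroup G where
  carrier := {y | y * z = z * y ∧ (y * q * y⁻¹ = q ∨ y * q * y⁻¹ = q * z)}
  one_mem' := ⟨by simp, Or.inl (by simp)⟩
  mul_mem' := fun {x y} hx hy => ⟨by
      rw [mul_assoc, hy.1, ← mul_assoc, hx.1, mul_assoc], by
      rw [show x * y * q * (x * y)⁻¹ = x * (y * q * y⁻¹) * x⁻¹ by group]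
      exact conj_pair hx.1 hz hy.2 hx.2⟩
  inv_mem' := fun {x} hx => by
    have hz' : x⁻¹ * z = z * x⁻¹ := by
      rw [inv_mul_eq_iff_eq_mul, ← mul_assoc, hx.1, mul_inv_cancel_right]
    refine ⟨hz', ?_⟩
    rcases hx.2 with e | e
    · left
      conv_lhs => arg 1; arg 2; rw [← e]
      group
    · right
      have h1 : x⁻¹ * (x * q * x⁻¹) * x = x⁻¹ * (q * z) * x := by rw [e]
      have h2 : x⁻¹ * (q * z) * x = (x⁻¹ * q * x) * z := by
        rw [mul_assoc (x⁻¹ * q) x z, hx.1]; group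
      rw [h2, show x⁻¹ * (x * q * x⁻¹) * x = q by group] at h1
      rw [inv_inv]
      calc x⁻¹ * q * x = x⁻¹ * q * x * (z * z) := by rw [hz, mul_one]
        _ = (x⁻¹ * q * x * z) * z := by group
        _ = q * z := by rw [← h1]

variable [Finite G] {S : Sylow 2 G} {φ : ℕ → G} (h : SylData (S : Subgroup G) φ)
include h

theorem SylData.conj_z {c : G} (hc : c * φ 1 = φ 1 * c) : c * φ 1 * c⁻¹ = φ 1 := by
  rw [hc, mul_inv_cancel_right]

theorem SylData.conj_inZ {c g : G} (hc : c * φ 1 = φ 1 * c) (hg : InZ φ g) :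
    InZ φ (c * g * c⁻¹) := by
  rcases hg with rfl | rfl
  · exact Or.inl (by group)
  · exact Or.inr (h.conj_z hc)

/-- A conjugate of `Q` under `C(z)` which lies in `S` is `Q`. -/
theorem SylData.conj_qSub {c : G} (hc : c * φ 1 = φ 1 * c)
    (hcS : ∀ q ∈ qSub φ, c * q * c⁻¹ ∈ (S : Subgroup G)) :
    (qSub φ).map (MulAut.conj c).toMonoidHom = qSub φ := by
  refine h.eq_qSub ?_ ?_ ?_ ?_ h.card_qSub
  · rintro _ ⟨q, hq, rfl⟩
    exact hcS q hq
  · rw [← h.card_qSub]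
    exact Nat.card_congr (equivMapOfInjective _ _ (MulAut.conj c).injective).symm.toEquiv
  · rintro _ ⟨q, hq, rfl⟩
    show InZ φ (c * q * c⁻¹ * (c * q * c⁻¹))
    rw [show c * q * c⁻¹ * (c * q * c⁻¹) = c * (q * q) * c⁻¹ by group]
    exact h.conj_inZ hc (h.q_sq hq)
  · rintro _ ⟨a, ha, rfl⟩ _ ⟨b, hb, rfl⟩
    show InZ φ (c * a * c⁻¹ * (c * b * c⁻¹) * (c * a * c⁻¹)⁻¹ * (c * b * c⁻¹)⁻¹)
    rw [show c * a * c⁻¹ * (c * b * c⁻¹) * (c * a * c⁻¹)⁻¹ * (c * b * c⁻¹)⁻¹ =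
      c * (a * b * a⁻¹ * b⁻¹) * c⁻¹ by group]
    exact h.conj_inZ hc (h.q_comm ha hb)

omit h in
/-- Two 2-subgroups of `M`: the second is conjugate in `M` into a 2-subgroup containing the first. -/
theorem exists_conj_pair (M : Subgroup G) {A B : Subgroup G} (hA : IsPGroup 2 ↥A)
    (hB : IsPGroup 2 ↥B) (hAM : A ≤ M) (hBM : B ≤ M) :
    ∃ P : Subgroup G, IsPGroup 2 ↥P ∧ P ≤ M ∧ A ≤ P ∧
      ∃ m ∈ M, ∀ b ∈ B, m * b * m⁻¹ ∈ P := by
  haveI : Fact (Nat.Prime 2) := ⟨Nat.prime_two⟩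
  obtain ⟨P₁, hP₁⟩ := (hA.of_equiv (subgroupOfEquivOfLe hAM).symm).exists_le_sylow
  obtain ⟨P₂, hP₂⟩ := (hB.of_equiv (subgroupOfEquivOfLe hBM).symm).exists_le_sylow
  obtain ⟨m, hm⟩ := MulAction.exists_smul_eq ↥M P₂ P₁
  refine ⟨(P₁ : Subgroup ↥M).map M.subtype, P₁.2.map _, map_subtype_le _,
    fun a ha => ⟨⟨a, hAM ha⟩, hP₁ ha, rfl⟩, (m : G), m.2, fun b hb => ?_⟩
  refine ⟨m * ⟨b, hBM hb⟩ * m⁻¹, ?_, rfl⟩
  have h1 : (⟨b, hBM hb⟩ : ↥M) ∈ (P₂ : Subgroup ↥M) := hP₂ hb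
  have h2 := (Subgroup.smul_mem_pointwise_smul _ (MulAut.conj m) (P₂ : Subgroup ↥M) h1)
  rw [← hm]
  exact h2

/-- A 2-subgroup of `C(z)` is conjugate in `C(z)` into `S`. -/
theorem SylData.exists_conj_into {P : Subgroup G} (hP : IsPGroup 2 ↥P)
    (hPz : P ≤ centralizer ({φ 1} : Set G)) :
    ∃ c : G, c * φ 1 = φ 1 * c ∧ ∀ p ∈ P, c * p * c⁻¹ ∈ (S : Subgroup G) := by
  haveI : Fact (Nat.Prime 2) := ⟨Nat.prime_two⟩
  have hSC : (S : Subgroup G) ≤ centralizer ({φ 1} : Set G) := fun s hs =>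
    mem_centralizer_singleton_iff.2 (h.z_comm hs)
  obtain ⟨P', hP'P, hP'C, hle, m, hm, hmB⟩ :=
    exists_conj_pair (centralizer ({φ 1} : Set G)) S.2 hP hSC hPz
  rw [← S.3 hP'P hle]at *
  exact ⟨m, mem_centralizer_singleton_iff.1 hm, hmB⟩

/-- An element of `C(z)` normalises `Q` after correction inside `M ≥ Q, Q^c`. -/
theorem SylData.exists_normalizing (M : Subgroup G) (hMz : M ≤ centralizer ({φ 1} : Set G))
    (hQ : qSub φ ≤ M) {c : G} (hc : c * φ 1 = φ 1 * c)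
    (hQc : ∀ q ∈ qSub φ, c * q * c⁻¹ ∈ M) :
    ∃ m ∈ M, m * c * φ 1 = φ 1 * (m * c) ∧
      (qSub φ).map (MulAut.conj (m * c)).toMonoidHom = qSub φ := by
  haveI : Fact (Nat.Prime 2) := ⟨Nat.prime_two⟩
  have hQp : IsPGroup 2 ↥(qSub φ) := S.2.to_le h.qSub_le
  obtain ⟨P, hPp, hPM, hQP, m, hm, hmB⟩ := exists_conj_pair M hQp
    (hQp.map (MulAut.conj c).toMonoidHom) hQ (by rintro _ ⟨q, hq, rfl⟩; exact hQc q hq)
  obtain ⟨d, hd, hdP⟩ := h.exists_conj_into hPp (hPM.trans hMz)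
  have hmz := mem_centralizer_singleton_iff.1 (hMz hm)
  have hmc : m * c * φ 1 = φ 1 * (m * c) := by rw [mul_assoc, hc, ← mul_assoc, hmz, mul_assoc]
  refine ⟨m, hm, hmc, ?_⟩
  have h1 := h.conj_qSub hd fun q hq => hdP q (hQP hq)
  have h2 := h.conj_qSub (c := d * (m * c)) (by rw [mul_assoc, hmc, ← mul_assoc, hd, mul_assoc])
    fun q hq => by
      rw [show d * (m * c) * q * (d * (m * c))⁻¹ = d * (m * (c * q * c⁻¹) * m⁻¹) * d⁻¹ by group]
      exact hdP _ (hmB _ ⟨q, hq, rfl⟩)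
  refine map_injective (f := (MulAut.conj d).toMonoidHom) (MulAut.conj d).injective ?_
  rw [Subgroup.map_map, h1]
  refine Eq.trans ?_ h2
  congr 1
  ext x
  simp [mul_assoc]

theorem SylData.conj_ne {c : G} (hc : c * φ 1 = φ 1 * c) {g : G} (hg : ¬ InZ φ g) :
    ¬ InZ φ (c * g * c⁻¹) := fun e => hg (by
  have hc' : c⁻¹ * φ 1 = φ 1 * c⁻¹ := by
    rw [inv_mul_eq_iff_eq_mul, ← mul_assoc, hc, mul_inv_cancel_right]
  have := h.conj_inZ hc' e
  rwa [show c⁻¹ * (c * g * c⁻¹) * c⁻¹⁻¹ = g by group] at this)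

theorem SylData.three_eq : φ 3 = φ 2 * φ 1 := by
  rw [← h.map_mul 2 (by norm_num) 1 (by norm_num)]
  exact congrArg φ (by decide +kernel)

theorem SylData.w_sq : φ 2 * φ 2 = 1 ∧ φ 3 * φ 3 = 1 := by
  rw [← h.map_mul 2 (by norm_num) 2 (by norm_num), ← h.map_mul 3 (by norm_num) 3 (by norm_num),
    show mul 2 2 = 0 by decide +kernel, show mul 3 3 = 0 by decide +kernel, h.map_zero]
  exact ⟨rfl, rfl⟩

/-- In `C(z)`, an element of `S ∖ Q` with central square is not conjugate into `Q`. -/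
theorem SylData.not_conj_out {x c : G} (hx : x ∈ (S : Subgroup G)) (hxQ : x ∉ qSub φ)
    (hx2 : InZ φ (x * x)) (hc : c * φ 1 = φ 1 * c) : c * x * c⁻¹ ∉ qSub φ := by
  intro hq
  haveI : Fact (Nat.Prime 2) := ⟨Nat.prime_two⟩
  set z := φ 1 with hz
  set q := c * x * c⁻¹ with hqdef
  obtain ⟨hsq, hxR, a, ha, b, hb, hxa, hxb, hab⟩ := h.out hx hxQ hx2
  have hxz : x * z = z * x := h.z_comm hx
  have hqz : q * z = z * q := by
    have e1 := h.conj_z hc
    calc q * z = c * x * c⁻¹ * (c * z * c⁻¹) := by rw [e1]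
      _ = c * (x * z) * c⁻¹ := by group
      _ = c * (z * x) * c⁻¹ := by rw [hxz]
      _ = (c * z * c⁻¹) * q := by rw [hqdef]; group
      _ = z * q := by rw [e1]
  have hcom : ∀ {g y : G}, g * z = z * g → InZ φ (g * y * g⁻¹ * y⁻¹) → y * z = z * y →
      y ∈ stab z g h.z_sq := by
    intro g y hgz hgy hyz
    refine ⟨hyz, ?_⟩
    rcases hgy with e | e
    · left
      rw [mul_inv_eq_one, mul_inv_eq_iff_eq_mul] at e
      rw [← e, mul_inv_cancel_right]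
    · right
      rw [mul_inv_eq_iff_eq_mul, mul_inv_eq_iff_eq_mul] at e
      have e2 : y * g = z * (g * y) := by
        rw [e, ← hz, show z * (z * y * g) = z * z * (y * g) by group, h.z_sq, one_mul]
      rw [e2, show z * (g * y) * y⁻¹ = z * g by group, hgz]
  set M := stab z q h.z_sq with hM
  have hMz : M ≤ centralizer ({φ 1} : Set G) := fun y hy => mem_centralizer_singleton_iff.2 hy.1
  have hQM : qSub φ ≤ M := fun p hp =>
    hcom hqz (h.q_comm hq hp) (h.z_comm (h.qSub_le hp))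
  set Rx := stab z x h.z_sq ⊓ (S : Subgroup G) with hRx
  have hRxM : Rx.map (MulAut.conj c).toMonoidHom ≤ M := by
    rintro _ ⟨y, ⟨⟨hyz, hy⟩, -⟩, rfl⟩
    refine ⟨?_, ?_⟩
    · show c * y * c⁻¹ * z = z * (c * y * c⁻¹)
      calc c * y * c⁻¹ * z = c * y * c⁻¹ * (c * z * c⁻¹) := by rw [h.conj_z hc]
        _ = c * (y * z) * c⁻¹ := by group
        _ = c * (z * y) * c⁻¹ := by rw [hyz]
        _ = (c * z * c⁻¹) * (c * y * c⁻¹) := by group
        _ = _ := by rw [h.conj_z hc]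
    · show c * y * c⁻¹ * q * (c * y * c⁻¹)⁻¹ = q ∨ c * y * c⁻¹ * q * (c * y * c⁻¹)⁻¹ = q * z
      rw [hqdef, show c * y * c⁻¹ * (c * x * c⁻¹) * (c * y * c⁻¹)⁻¹ = c * (y * x * y⁻¹) * c⁻¹ by
        group]
      rcases hy with e | e <;> rw [e]
      · exact Or.inl rfl
      · right
        rw [show c * (x * z) * c⁻¹ = c * x * c⁻¹ * (c * z * c⁻¹) by group, h.conj_z hc]
  have hQp : IsPGroup 2 ↥(qSub φ) := S.2.to_le h.qSub_le
  have hRxp : IsPGroup 2 ↥(Rx.map (MulAut.conj c).toMonoidHom) :=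
    (S.2.to_le inf_le_right).map _
  obtain ⟨P, hPp, hPM, hQP, m, hm, hmB⟩ := exists_conj_pair M hQp hRxp hQM hRxM
  obtain ⟨d, hd, hdP⟩ := h.exists_conj_into hPp (hPM.trans hMz)
  have hdQ := h.conj_qSub hd fun p hp => hdP p (hQP hp)
  set e := d * m * c with he
  have hez : e * z = z * e := by
    have hmz : m * z = z * m := mem_centralizer_singleton_iff.1 (hMz hm)
    calc e * z = d * (m * (c * z)) := by rw [he]; group
      _ = d * (m * z) * c := by rw [hc]; group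
      _ = d * z * (m * c) := by rw [hmz]; group
      _ = z * d * (m * c) := by rw [hd]
      _ = z * e := by rw [he]; group
  -- `e x e⁻¹` lies in `Q` and `e` carries the two witnesses into `S`
  have hexQ : e * x * e⁻¹ ∈ qSub φ := by
    rw [he, show d * m * c * x * (d * m * c)⁻¹ = d * (m * q * m⁻¹) * d⁻¹ by rw [hqdef]; group,
      ← hdQ]
    refine ⟨m * q * m⁻¹, ?_, rfl⟩
    rcases hm.2 with e1 | e1 <;> rw [e1]
    exacts [hq, mul_mem hq h.z_mem]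
  have heS : ∀ y ∈ (S : Subgroup G), InZ φ (x * y * x⁻¹ * y⁻¹) → e * y * e⁻¹ ∈ (S : Subgroup G) := by
    intro y hy hxy
    have hyR : y ∈ Rx := ⟨hcom hxz hxy (h.z_comm hy), hy⟩
    rw [he, show d * m * c * y * (d * m * c)⁻¹ = d * (m * (c * y * c⁻¹) * m⁻¹) * d⁻¹ by group]
    exact hdP _ (hmB _ ⟨y, hyR, rfl⟩)
  -- `e` fixes `{v₀, v₀ z}`
  have hw : ∀ w', (w' = φ 2 ∨ w' = φ 3) → a * b * a⁻¹ * b⁻¹ = w' →
      e * w' * e⁻¹ = φ 2 ∨ e * w' * e⁻¹ = φ 3 := by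
    intro w' hw' hab'
    have h1 := h.comm_mem (heS a ha hxa) (heS b hb hxb)
    rw [show e * a * e⁻¹ * (e * b * e⁻¹) * (e * a * e⁻¹)⁻¹ * (e * b * e⁻¹)⁻¹ =
      e * (a * b * a⁻¹ * b⁻¹) * e⁻¹ by group, hab'] at h1
    have h2 : e * w' * e⁻¹ * (e * w' * e⁻¹) = 1 := by
      rw [show e * w' * e⁻¹ * (e * w' * e⁻¹) = e * (w' * w') * e⁻¹ by group]
      rcases hw' with rfl | rfl
      · rw [h.w_sq.1]; group
      · rw [h.w_sq.2]; group
    exact (h.invol_qr h1.1 h1.2 h2).resolve_left (h.conj_ne hez (by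
      rcases hw' with rfl | rfl
      exacts [h.two_not_inZ.1, h.two_not_inZ.2]))
  have h32 : φ 2 = φ 3 * φ 1 := by rw [h.three_eq, mul_assoc, h.z_sq, mul_one]
  have hew : e * φ 2 * e⁻¹ = φ 2 ∨ e * φ 2 * e⁻¹ = φ 3 := by
    rcases hab with hab | hab
    · exact hw _ (Or.inl rfl) hab
    · rw [h32, show e * (φ 3 * φ 1) * e⁻¹ = e * φ 3 * e⁻¹ * (e * φ 1 * e⁻¹) by group, h.conj_z hez,
        ← h32]
      rcases hw _ (Or.inr rfl) hab with e1 | e1 <;> rw [e1]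
      · exact Or.inr h.three_eq.symm
      · exact Or.inl h32.symm
  -- so `e x e⁻¹` centralises `v₀`
  have hexR : e * x * e⁻¹ ∈ rSub φ := by
    rw [h.mem_rSub (h.qSub_le hexQ)]
    have hc2 : e * x * e⁻¹ * (e * φ 2 * e⁻¹) = e * φ 2 * e⁻¹ * (e * x * e⁻¹) := by
      rw [show e * x * e⁻¹ * (e * φ 2 * e⁻¹) = e * (x * φ 2) * e⁻¹ by group,
        (h.mem_rSub hx).1 hxR]
      group
    rcases hew with e1 | e1
    · rwa [e1] at hc2
    · rw [e1, h.three_eq, ← mul_assoc, mul_assoc (φ 2), ← h.z_comm (h.qSub_le hexQ),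
        ← mul_assoc] at hc2
      exact mul_right_cancel hc2
  have hex2 : e * x * e⁻¹ * (e * x * e⁻¹) = 1 := by
    rw [show e * x * e⁻¹ * (e * x * e⁻¹) = e * (x * x) * e⁻¹ by group, hsq]; group
  have hxnz : ¬ InZ φ x := fun e' => hxQ (h.inZ_mem e')
  refine hxQ ?_
  have hinj : ∀ {y w' : G}, e * y * e⁻¹ = e * w' * e⁻¹ → y = w' := fun {y w'} e1 =>
    mul_left_cancel (mul_right_cancel e1)
  have h2Q : φ 2 ∈ qSub φ := h.mem_qSub_iff.2 ⟨2, by norm_num, rfl⟩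
  rcases (h.invol_qr hexQ hexR hex2).resolve_left (h.conj_ne hez hxnz) with e1 | e1 <;>
    rcases hew with e2 | e2
  · rw [hinj (e1.trans e2.symm)]; exact h2Q
  · have : e * x * e⁻¹ = e * (φ 2 * φ 1) * e⁻¹ := by
      rw [e1, show e * (φ 2 * φ 1) * e⁻¹ = e * φ 2 * e⁻¹ * (e * φ 1 * e⁻¹) by group, e2,
        h.conj_z hez, ← h32]
    rw [hinj this]; exact mul_mem h2Q h.z_mem
  · have : e * x * e⁻¹ = e * (φ 2 * φ 1) * e⁻¹ := by
      rw [e1, show e * (φ 2 * φ 1) * e⁻¹ = e * φ 2 * e⁻¹ * (e * φ 1 * e⁻¹) by group, e2,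
        h.conj_z hez, h.three_eq]
    rw [hinj this]; exact mul_mem h2Q h.z_mem
  · rw [hinj (e1.trans e2.symm)]; exact h2Q

/-- With no subgroup of index two an element of `C(z) ∩ N(Q)` moves `{v₀, v₀ z}`. -/
theorem SylData.exists_moving (hG : ∀ N : Subgroup G, N.index ≠ 2) :
    ∃ n : G, n * φ 1 = φ 1 * n ∧ (qSub φ).map (MulAut.conj n).toMonoidHom = qSub φ ∧
      ¬ (n * φ 2 * n⁻¹ = φ 2 ∨ n * φ 2 * n⁻¹ = φ 3) := by
  classical
  haveI : Fact (Nat.Prime 2) := ⟨Nat.prime_two⟩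
  have hlt4 : (4 : ℕ) < 128 := by norm_num
  set u := φ 4 with hu
  have huS : u ∈ (S : Subgroup G) := h.mem 4 hlt4
  have huQ : u ∈ qSub φ := h.mem_qSub_iff.2 ⟨4, by norm_num, rfl⟩
  have hu2 : u * u = 1 := by
    rw [← h.map_mul 4 hlt4 4 hlt4, show mul 4 4 = 0 by decide +kernel, h.map_zero]
  have huR : u ∉ rSub φ := fun e => by
    have := (h.mem_rSub_index hlt4).1 e
    revert this
    decide +kernel
  have hu1 : u ≠ 1 := fun e => huR (e ▸ one_mem _)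
  have hrel : (rSub φ).relIndex (S : Subgroup G) = 2 := by
    refine Subgroup.relIndex_eq_two_iff.2 ⟨u, huS, fun b hb => ?_⟩
    obtain ⟨x, hx, rfl⟩ := h.surj b hb
    rw [hu, ← h.map_mul x hx 4 hlt4, h.mem_rSub_index hx, h.mem_rSub_index (mul_lt hx hlt4)]
    have key : allBelow 128 (fun x => xor (inR (mul x 4)) (inR x)) = true := by decide +kernel
    have := below_iff.1 key x hx
    revert this
    cases inR x <;> cases inR (mul x 4) <;> simp
  set P := centralizer ({u} : Set G) ⊓ (S : Subgroup G) with hPdef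
  obtain ⟨g, hgR, hgS⟩ := DihedralPair.exists_conj_extremal S (rSub φ) h.rSub_le hrel hG
    (orderOf_eq_prime (by rw [pow_two]; exact hu2) hu1) (S.2.to_le (inf_le_right : P ≤ _))
    fun x hx => mem_centralizer_singleton_iff.1 hx.1
  obtain ⟨⟨a, ha, b, hb, hua, hub, hab⟩, -⟩ := h.side huQ huR hu2
  have hz' := h.comm_mem (hgS a ⟨mem_centralizer_singleton_iff.2 hua.symm, h.qSub_le ha⟩)
    (hgS b ⟨mem_centralizer_singleton_iff.2 hub.symm, h.qSub_le hb⟩)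
  set z' := g * φ 1 * g⁻¹ with hz'def
  rw [show g * a * g⁻¹ * (g * b * g⁻¹) * (g * a * g⁻¹)⁻¹ * (g * b * g⁻¹)⁻¹ =
    g * (a * b * a⁻¹ * b⁻¹) * g⁻¹ by group, hab] at hz'
  have hz'2 : z' * z' = 1 := by
    rw [hz'def, show g * φ 1 * g⁻¹ * (g * φ 1 * g⁻¹) = g * (φ 1 * φ 1) * g⁻¹ by group, h.z_sq]
    group
  -- `R` centralises `z'`
  have hRz' : ∀ r ∈ rSub φ, r * z' = z' * r := by
    intro r hr
    have hrS := h.rSub_le hr
    have h2 := (h.mem_rSub hrS).1 hr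
    rcases h.invol_qr hz'.1 hz'.2 hz'2 with (e | e) | e | e <;> rw [hz'def, e]
    · rw [one_mul, mul_one]
    · exact h.z_comm hrS
    · exact h2
    · rw [h.three_eq, ← mul_assoc, h2, mul_assoc, h.z_comm hrS, ← mul_assoc]
  have hgRz' : ∀ r ∈ rSub φ, (g * r * g⁻¹) * z' = z' * (g * r * g⁻¹) := by
    intro r hr
    rw [hz'def, show g * r * g⁻¹ * (g * φ 1 * g⁻¹) = g * (r * φ 1) * g⁻¹ by group,
      h.z_comm (h.rSub_le hr)]
    group
  have hRp : IsPGroup 2 ↥(rSub φ) := S.2.to_le h.rSub_le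
  obtain ⟨P', hP'p, -, hRP', m, hm, hmB⟩ := exists_conj_pair (centralizer ({z'} : Set G)) hRp
    (hRp.map (MulAut.conj g).toMonoidHom)
    (fun r hr => mem_centralizer_singleton_iff.2 (hRz' r hr))
    (by rintro _ ⟨r, hr, rfl⟩; exact mem_centralizer_singleton_iff.2 (hgRz' r hr))
  obtain ⟨T, hT⟩ := hP'p.exists_le_sylow
  obtain ⟨d, hd⟩ := MulAction.exists_smul_eq G T S
  have hdT : ∀ p ∈ P', d * p * d⁻¹ ∈ (S : Subgroup G) := fun p hp => by
    rw [← hd]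
    exact Subgroup.smul_mem_pointwise_smul _ (MulAut.conj d) (T : Subgroup G) (hT hp)
  -- both `d` and `d m g` normalise `R`
  have hnorm : ∀ c : G, (∀ r ∈ rSub φ, c * r * c⁻¹ ∈ (S : Subgroup G)) →
      (rSub φ).map (MulAut.conj c).toMonoidHom = rSub φ := fun c hc => by
    refine Subgroup.eq_of_le_of_card_ge ?_ ?_
    · rintro _ ⟨r, hr, rfl⟩
      exact h.conj_rSub hc r hr
    · exact le_of_eq (Nat.card_congr
        (equivMapOfInjective _ _ (MulAut.conj c).injective).toEquiv)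
  have hdR := hnorm d fun r hr => hdT r (hRP' hr)
  have hdmgR := hnorm (d * (m * g)) fun r hr => by
    rw [show d * (m * g) * r * (d * (m * g))⁻¹ = d * (m * (g * r * g⁻¹) * m⁻¹) * d⁻¹ by group]
    exact hdT _ (hmB _ ⟨r, hr, rfl⟩)
  have hmgR : (rSub φ).map (MulAut.conj (m * g)).toMonoidHom = rSub φ := by
    refine map_injective (f := (MulAut.conj d).toMonoidHom) (MulAut.conj d).injective ?_
    rw [Subgroup.map_map, hdR]
    refine Eq.trans ?_ hdmgR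
    congr 1
    ext x
    simp [mul_assoc]
  set k := (m * g)⁻¹ with hk
  have hkR : ∀ r ∈ rSub φ, k * r * k⁻¹ ∈ rSub φ := by
    intro r hr
    rw [← hmgR] at hr
    obtain ⟨r₀, hr₀, rfl⟩ := hr
    show k * (m * g * r₀ * (m * g)⁻¹) * k⁻¹ ∈ _
    rw [hk, show (m * g)⁻¹ * (m * g * r₀ * (m * g)⁻¹) * (m * g)⁻¹⁻¹ = r₀ by group]
    exact hr₀
  have hkz : (k * g) * φ 1 = φ 1 * (k * g) := by
    have hm' := mem_centralizer_singleton_iff.1 hm
    rw [hk, show (m * g)⁻¹ * g * φ 1 = (m * g)⁻¹ * (z' * g) by rw [hz'def]; group,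
      show φ 1 * ((m * g)⁻¹ * g) = (m * g)⁻¹ * (m * z' * m⁻¹ * g) by rw [hz'def]; group, hm',
      mul_inv_cancel_right]
  set c := k * g with hc
  set x := c * u * c⁻¹ with hxdef
  have hxR : x ∈ rSub φ := by
    rw [hxdef, hc, show k * g * u * (k * g)⁻¹ = k * (g * u * g⁻¹) * k⁻¹ by group]
    exact hkR _ hgR
  have hx2 : x * x = 1 := by
    rw [hxdef, show c * u * c⁻¹ * (c * u * c⁻¹) = c * (u * u) * c⁻¹ by group, hu2]; group
  have hcinv : c⁻¹ * φ 1 = φ 1 * c⁻¹ := by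
    rw [inv_mul_eq_iff_eq_mul, ← mul_assoc, hkz, mul_inv_cancel_right]
  have hxQ : x ∈ qSub φ := by
    by_contra hxQ
    refine h.not_conj_out (h.rSub_le hxR) hxQ (Or.inl hx2) hcinv ?_
    rw [hxdef, show c⁻¹ * (c * u * c⁻¹) * c⁻¹⁻¹ = u by group]
    exact huQ
  have hunz : ¬ InZ φ u := by
    rw [hu, h.inZ_iff hlt4]; decide +kernel
  have hxw := (h.invol_qr hxQ hxR hx2).resolve_left (h.conj_ne hkz hunz)
  -- now inside the stabiliser of `{v₀, v₀ z}`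
  set M := stab (φ 1) (φ 2) h.z_sq with hM
  have hpair : ∀ (y : G), y * φ 1 = φ 1 * y →
      (∀ a, (a = φ 2 ∨ a = φ 3) → InZ φ (a * y * a⁻¹ * y⁻¹)) → y ∈ M := by
    intro y hyz hy
    refine ⟨hyz, ?_⟩
    have h2S : φ 2 * φ 1 = φ 1 * φ 2 := h.z_comm (h.mem 2 (by norm_num))
    rcases hy _ (Or.inl rfl) with e | e
    · left
      rw [mul_inv_eq_one, mul_inv_eq_iff_eq_mul] at e
      rw [← e, mul_inv_cancel_right]
    · right
      rw [mul_inv_eq_iff_eq_mul, mul_inv_eq_iff_eq_mul] at e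
      have e2 : y * φ 2 = φ 1 * (φ 2 * y) := by
        rw [e, show φ 1 * (φ 1 * y * φ 2) = φ 1 * φ 1 * (y * φ 2) by group, h.z_sq, one_mul]
      rw [e2, show φ 1 * (φ 2 * y) * y⁻¹ = φ 1 * φ 2 by group, h2S]
  have hwQ : ∀ a, (a = φ 2 ∨ a = φ 3) → a ∈ qSub φ := by
    rintro a (rfl | rfl) <;> exact h.mem_qSub_iff.2 ⟨_, by norm_num, rfl⟩
  have hQM : qSub φ ≤ M := fun p hp =>
    hpair p (h.z_comm (h.qSub_le hp)) fun a ha => h.q_comm (hwQ a ha) hp
  have hQcM : ∀ p ∈ qSub φ, c * p * c⁻¹ ∈ M := fun p hp => by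
    refine hpair _ ?_ fun a ha => ?_
    · calc c * p * c⁻¹ * φ 1 = c * p * c⁻¹ * (c * φ 1 * c⁻¹) := by rw [h.conj_z hkz]
        _ = c * (p * φ 1) * c⁻¹ := by group
        _ = c * (φ 1 * p) * c⁻¹ := by rw [h.z_comm (h.qSub_le hp)]
        _ = (c * φ 1 * c⁻¹) * (c * p * c⁻¹) := by group
        _ = _ := by rw [h.conj_z hkz]
    · -- `a` is `x` up to `z`
      have hax : a = x ∨ a = x * φ 1 := by
        have h32 : φ 2 = φ 3 * φ 1 := by rw [h.three_eq, mul_assoc, h.z_sq, mul_one]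
        rcases ha with rfl | rfl <;> rcases hxw with e | e <;> rw [e]
        exacts [Or.inl rfl, Or.inr h32, Or.inr h.three_eq, Or.inl rfl]
      have h1 := h.conj_inZ hkz (h.q_comm huQ hp)
      rw [show c * (u * p * u⁻¹ * p⁻¹) * c⁻¹ =
        x * (c * p * c⁻¹) * x⁻¹ * (c * p * c⁻¹)⁻¹ by rw [hxdef]; group] at h1
      rcases hax with rfl | rfl
      · exact h1
      · have hcp : c * p * c⁻¹ * φ 1 = φ 1 * (c * p * c⁻¹) := by
          calc c * p * c⁻¹ * φ 1 = c * p * c⁻¹ * (c * φ 1 * c⁻¹) := by rw [h.conj_z hkz]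
            _ = c * (p * φ 1) * c⁻¹ := by group
            _ = c * (φ 1 * p) * c⁻¹ := by rw [h.z_comm (h.qSub_le hp)]
            _ = (c * φ 1 * c⁻¹) * (c * p * c⁻¹) := by group
            _ = _ := by rw [h.conj_z hkz]
        rw [show x * φ 1 * (c * p * c⁻¹) * (x * φ 1)⁻¹ * (c * p * c⁻¹)⁻¹ =
          x * (φ 1 * (c * p * c⁻¹)) * (φ 1)⁻¹ * x⁻¹ * (c * p * c⁻¹)⁻¹ by group, ← hcp,
          show x * (c * p * c⁻¹ * φ 1) * (φ 1)⁻¹ * x⁻¹ * (c * p * c⁻¹)⁻¹ =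
            x * (c * p * c⁻¹) * x⁻¹ * (c * p * c⁻¹)⁻¹ by group]
        exact h1
  obtain ⟨m', hm', hmc, hmap⟩ := h.exists_normalizing M
    (fun y hy => mem_centralizer_singleton_iff.2 hy.1) hQM hkz hQcM
  set n := (m' * c)⁻¹ with hn
  have hnz : n * φ 1 = φ 1 * n := by
    rw [hn, inv_mul_eq_iff_eq_mul, ← mul_assoc, hmc, mul_inv_cancel_right]
  refine ⟨n, hnz, ?_, fun hne => ?_⟩
  · conv_lhs => rw [← hmap, Subgroup.map_map]
    convert Subgroup.map_id (qSub φ) using 2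
    ext y
    simp [hn, mul_assoc]
  -- `m' c` carries `u` into the pair
  have hmu : m' * c * u * (m' * c)⁻¹ = φ 2 ∨ m' * c * u * (m' * c)⁻¹ = φ 3 := by
    rw [show m' * c * u * (m' * c)⁻¹ = m' * x * m'⁻¹ by rw [hxdef]; group, h.three_eq]
    exact conj_pair hm'.1 h.z_sq (by rw [← h.three_eq]; exact hxw) hm'.2
  have hu' : u = φ 2 ∨ u = φ 3 := by
    have h32 : φ 2 = φ 3 * φ 1 := by rw [h.three_eq, mul_assoc, h.z_sq, mul_one]
    have h3 : n * φ 3 * n⁻¹ = n * φ 2 * n⁻¹ * φ 1 := by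
      rw [h.three_eq, show n * (φ 2 * φ 1) * n⁻¹ = n * φ 2 * n⁻¹ * (n * φ 1 * n⁻¹) by group,
        h.conj_z hnz]
    have hu3 : u = n * φ 2 * n⁻¹ ∨ u = n * φ 3 * n⁻¹ := by
      rcases hmu with e | e
      · left; rw [← e, hn]; group
      · right; rw [← e, hn]; group
    rcases hu3 with e | e <;> rcases hne with e1 | e1 <;> rw [e]
    · exact Or.inl e1
    · exact Or.inr e1
    · right; rw [h3, e1, h.three_eq]
    · left; rw [h3, e1, ← h32]
  rcases hu' with e | e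
  · have := h.inj 4 hlt4 2 (by norm_num) e; omega
  · have := h.inj 4 hlt4 3 (by norm_num) e; omega

end Cfsg.Agent.Lib.SylJ2Type51
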