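import Cfsg.Agent.Lib.SylJ2Type51.Trans
import Cfsg.Agent.Lib.HJUniq.Model
import Cfsg.Agent.Lib.SporJ2.Cent

/-!
# The model inside the Hall-Janko group (S3199)

The presented group of order `1920` embeds in `J₂` as the centraliser of a 2-central involution; the
128 indices are a Sylow 2-subgroup of it.
-/

set_option autoImplicit false
set_option linter.unusedSectionVars false
set_option linter.style.haveILetI false
set_option maxRecDepth 20000

namespace Cfsg.Agent.Lib.SylJ2Type51

open Subgroup Cfsg.Agent.Lib.CosetEnum Cfsg.Agent.Lib.ExactCover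
open Cfsg.Agent.Lib.HJUniq (PC P315 sc small sc_eq_iff card_PC)

theorem hom_check : allBelow 7 (fun g => allBelow 128 (fun x =>
    Nat.beq (sc (word x ++ genW.getD g [])) (sc (word (rm g x))) && Nat.blt (rm g x) 128)) = true := by
  decide +kernel

theorem small_check : (allBelow 128 (fun x => small (word x)) &&
    genW.all small) = true := by decide +kernel

theorem nodup_check : ((List.range 128).map fun x => sc (word x)).Nodup := by decide +kernel

theorem centre_check : ([0, 2, 4].all fun g =>
    Nat.beq (sc (HJUniq.zW ++ [g])) (sc ([g] ++ HJUniq.zW))) = true ∧ word 1 = HJUniq.zW := by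
  decide +kernel

/-- The element of an index. -/
noncomputable def pc (x : ℕ) : PC := el (n := 3) HJC1920.relWords (word x)

theorem small_gen (g : ℕ) (hg : g < 7) : small (genW.getD g []) = true := by
  have h := small_check
  rw [Bool.and_eq_true, List.all_eq_true] at h
  exact h.2 _ (by rw [List.getD_eq_getElem _ _ (show g < genW.length from hg)]; exact List.getElem_mem _)

theorem small_word {x : ℕ} (hx : x < 128) : small (word x) = true := by
  have h := small_check
  rw [Bool.and_eq_true] at h
  exact allBelow_iff.1 h.1 x hx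

theorem pc_step {x y g : ℕ} (hx : x < 128) (hg : g < 7) :
    step y g x < 128 ∧ pc (step y g x) =
      pc x * el HJC1920.relWords (if Nat.beq ((y >>> g) % 2) 1 then genW.getD g [] else []) := by
  rw [step]
  by_cases hb : Nat.beq ((y >>> g) % 2) 1 = true
  · rw [if_pos hb, if_pos hb]
    have h := allBelow_iff.1 (allBelow_iff.1 hom_check g hg) x hx
    rw [Bool.and_eq_true, Nat.beq_eq, Nat.blt_eq] at h
    refine ⟨h.2, ?_⟩
    rw [pc, pc, ← el_append]
    exact ((sc_eq_iff (HJUniq.small_append (small_word hx) (small_gen g hg)) (small_word h.2)).1 h.1).symm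
  · rw [if_neg hb, if_neg hb]
    exact ⟨hx, by rw [el_nil, mul_one]⟩

theorem pc_mul {x y : ℕ} (hx : x < 128) : pc (mul x y) = pc x * pc y := by
  have s0 := pc_step (y := y) hx (g := 0) (by norm_num)
  have s1 := pc_step (y := y) s0.1 (g := 1) (by norm_num)
  have s2 := pc_step (y := y) s1.1 (g := 2) (by norm_num)
  have s3 := pc_step (y := y) s2.1 (g := 3) (by norm_num)
  have s4 := pc_step (y := y) s3.1 (g := 4) (by norm_num)
  have s5 := pc_step (y := y) s4.1 (g := 5) (by norm_num)
  have s6 := pc_step (y := y) s5.1 (g := 6) (by norm_num)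
  rw [mul, s6.2, s5.2, s4.2, s3.2, s2.2, s1.2, s0.2,
    show pc y = el HJC1920.relWords (word y) from rfl, word]
  simp [List.range_succ, el_append, el_nil, mul_assoc]

theorem pc_inj {x y : ℕ} (hx : x < 128) (hy : y < 128) (e : pc x = pc y) : x = y :=
  List.inj_on_of_nodup_map nodup_check (List.mem_range.2 hx) (List.mem_range.2 hy)
    ((sc_eq_iff (small_word hx) (small_word hy)).2 e)

theorem pc_central (w : PC) : w * pc 1 = pc 1 * w := by
  obtain ⟨hc, hw⟩ := centre_check
  have hsm : small HJUniq.zW = true := hw ▸ small_word (x := 1) (by norm_num)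
  rw [pc, hw]
  have key : ∀ g : Fin 3, PresentedGroup.of g * el (n := 3) HJC1920.relWords HJUniq.zW =
      el HJC1920.relWords HJUniq.zW * PresentedGroup.of g := by
    intro g
    have hs : small [2 * (g : ℕ)] = true := by fin_cases g <;> rfl
    have he := (sc_eq_iff (HJUniq.small_append hsm hs) (HJUniq.small_append hs hsm)).1
      (Nat.eq_of_beq_eq_true (List.all_eq_true.1 hc _ (by fin_cases g <;> simp)))
    rw [el_append, el_append, el_pos] at he
    exact he.symm
  have hmem : w ∈ centralizer ({el HJC1920.relWords HJUniq.zW} : Set PC) := by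
    have htop : Subgroup.closure (Set.range (PresentedGroup.of : Fin 3 → PC)) ≤
        centralizer ({el HJC1920.relWords HJUniq.zW} : Set PC) := by
      rw [Subgroup.closure_le]
      rintro _ ⟨g, rfl⟩
      exact mem_centralizer_singleton_iff.2 (key g)
    exact htop (by rw [PresentedGroup.closure_range_of]; exact mem_top _)
  exact mem_centralizer_singleton_iff.1 hmem

theorem exists_embedding : ∃ ι : PC →* Cfsg.Spor.J2, Function.Injective ι := by
  have hR : ∀ x ∈ HJC1920.pres, FreeGroup.lift
      ![el (n := 4) HJ315.relWords [0], el HJ315.relWords [2], el HJ315.relWords [4]] x = 1 := by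
    intro x hx
    obtain ⟨l, hl, rfl⟩ := List.mem_map.1 hx
    show FreeGroup.lift _ (ExactCover.word 3 l) = 1
    have hs := HJUniq.relWords_small l hl
    rw [HJUniq.lift_word3 _ _ _ (HJUniq.small_iff.1 hs),
      ← HJUniq.ev_small _ _ _ (el HJ315.relWords [6]) hs,
      HJUniq.el_ev _ (fun g hg => by have := HJUniq.small_iff.1 hs g hg; omega)]
    have hmem : l ∈ HJ315.relWords :=
      (by decide +kernel : ∀ l ∈ HJC1920.relWords, l ∈ HJ315.relWords) l hl
    exact PresentedGroup.one_of_mem (List.mem_map.2 ⟨l, hmem, rfl⟩)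
  haveI : Finite PC := Nat.finite_of_card_ne_zero (by rw [card_PC]; omega)
  haveI := HJUniq.card_P315_le.1
  set σ : PC →* P315 := PresentedGroup.toGroup hR
  obtain ⟨e⟩ := HJUniq.nonempty_P315_equiv
  set S := Subgroup.closure {x : P315 | ∃ l ∈ HJ315.subWords, el (n := 4) HJ315.relWords l = x} with hS
  have hle : S ≤ σ.range := by
    rw [hS, Subgroup.closure_le]
    rintro x ⟨l, hl, rfl⟩
    simp only [HJ315.subWords, List.mem_cons, List.not_mem_nil, or_false] at hl
    rcases hl with rfl | rfl | rfl
    exacts [⟨PresentedGroup.of 0, by simp [σ]⟩, ⟨PresentedGroup.of 1, by simp [σ]⟩,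
      ⟨PresentedGroup.of 2, by simp [σ]⟩]
  have h := card_eq_of_enum HJ315.enum
  rw [subOf_eq (n := 4) (R := HJ315.relWords) (by decide)] at h
  have h2 : Nat.card P315 = Nat.card S * 315 := h
  have h3 : Nat.card P315 = 604800 := (Nat.card_congr e.toEquiv).trans SporJ2.card_J2
  have h4 : 1920 ≤ Nat.card σ.range := le_trans (by omega) (Subgroup.card_le_of_le hle)
  refine ⟨e.toMonoidHom.comp σ, e.injective.comp ?_⟩
  have hb : Function.Bijective σ.rangeRestrict := (Nat.bijective_iff_surjective_and_card _).2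
    ⟨σ.rangeRestrict_surjective, le_antisymm (card_PC ▸ h4)
      (Nat.card_le_card_of_surjective _ σ.rangeRestrict_surjective)⟩
  exact fun x y hxy => hb.1 (Subtype.ext hxy)

/-- A parametrised Sylow subgroup of `J₂`, and the centraliser of its central involution. -/
theorem exists_model : ∃ (P : Sylow 2 Cfsg.Spor.J2) (φ : ℕ → Cfsg.Spor.J2),
    SylData (P : Subgroup Cfsg.Spor.J2) φ ∧
      Nonempty (PC ≃* ↥(centralizer ({φ 1} : Set Cfsg.Spor.J2))) := by
  haveI : Fact (Nat.Prime 2) := ⟨Nat.prime_two⟩
  haveI : Finite Cfsg.Spor.J2 := Nat.finite_of_card_ne_zero (by rw [SporJ2.card_J2]; norm_num)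
  haveI : Finite PC := Nat.finite_of_card_ne_zero (by rw [card_PC]; omega)
  obtain ⟨ι, hι⟩ := exists_embedding
  set φ := fun x => ι (pc x) with hφ
  set S : Subgroup Cfsg.Spor.J2 := Subgroup.closure (φ '' {x | x < 128}) with hS
  have hm : ∀ x y, x < 128 → φ (mul x y) = φ x * φ y := fun x y hx => by
    simp only [hφ, pc_mul hx, map_mul]
  have h0 : φ 0 = 1 := by
    have h1 := hm 0 0 (by norm_num)
    rw [show mul 0 0 = 0 by decide +kernel] at h1
    exact mul_eq_left.1 h1.symm
  have hmem : ∀ g ∈ S, ∃ x < 128, φ x = g := by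
    intro g hg
    induction hg using Subgroup.closure_induction with
    | mem g hg => obtain ⟨x, hx, e⟩ := hg; exact ⟨x, hx, e⟩
    | one => exact ⟨0, by norm_num, h0⟩
    | mul a b _ _ ha hb =>
      obtain ⟨x, hx, rfl⟩ := ha
      obtain ⟨y, hy, rfl⟩ := hb
      exact ⟨mul x y, mul_lt hx hy, hm x y hx⟩
    | inv a _ ha =>
      obtain ⟨x, hx, rfl⟩ := ha
      refine ⟨inv x, inv_lt hx, eq_inv_of_mul_eq_one_right ?_⟩
      have h1 := below_iff.1 inv_spec x hx
      simp only [Bool.and_eq_true, Nat.beq_eq] at h1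
      rw [← hm x (inv x) hx, h1.1.1.1.2, h0]
  have hD : SylData S φ :=
    { mem := fun x hx => Subgroup.subset_closure ⟨x, hx, rfl⟩
      surj := hmem
      inj := fun x hx y hy e => pc_inj hx hy (hι e)
      map_mul := fun x hx y _ => hm x y hx }
  have hSc : Nat.card S = 2 ^ 7 := by rw [hD.card_S]; norm_num
  let P : Sylow 2 Cfsg.Spor.J2 := Sylow.ofCard S (by
    rw [hSc, SporJ2.card_J2]
    have : (604800 : ℕ).factorization 2 = 7 := by
      rw [Nat.factorization_def _ Nat.prime_two, show (604800 : ℕ) = 2 ^ 7 * 4725 by norm_num,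
        padicValNat.mul (by norm_num) (by norm_num), padicValNat.prime_pow,
        padicValNat.eq_zero_of_not_dvd (by norm_num)]
    rw [this])
  have hP : (P : Subgroup Cfsg.Spor.J2) = S := rfl
  refine ⟨P, φ, hP ▸ hD, ?_⟩
  -- a conjugate of the reflection centraliser
  obtain ⟨e315⟩ := SporJ2.exists_centralizer_equiv
  set r := SporJ2.rbar 0 with hr
  set C := centralizer ({r} : Set Cfsg.Spor.J2) with hC
  have hCcard : Nat.card C = 1920 := (Nat.card_congr e315.toEquiv).trans SporJ2.card_S315
  obtain ⟨P0⟩ := (inferInstance : Nonempty (Sylow 2 C))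
  have hP0 : Nat.card P0 = 2 ^ 7 := by
    rw [P0.card_eq_multiplicity, hCcard]
    congr 1
    rw [Nat.factorization_def _ Nat.prime_two, show (1920 : ℕ) = 2 ^ 7 * 15 by norm_num,
      padicValNat.mul (by norm_num) (by norm_num), padicValNat.prime_pow,
      padicValNat.eq_zero_of_not_dvd (by norm_num)]
  obtain ⟨P1, hP1⟩ := (P0.2.map C.subtype).exists_le_sylow
  obtain ⟨c, hc⟩ := MulAction.exists_smul_eq Cfsg.Spor.J2 P1 P
  set w := c * r * c⁻¹ with hw
  have hPle : ∀ s ∈ S, w * s = s * w := by
    have hle : ((P0 : Subgroup C).map C.subtype).map (MulAut.conj c).toMonoidHom = S := by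
      refine Subgroup.eq_of_le_of_card_ge ?_ ?_
      · rw [← hP, ← hc]
        rintro _ ⟨y, hy, rfl⟩
        exact Subgroup.smul_mem_pointwise_smul _ (MulAut.conj c) (P1 : Subgroup Cfsg.Spor.J2) (hP1 hy)
      · rw [hSc, Subgroup.card_map_of_injective (f := (MulAut.conj c).toMonoidHom) (MulAut.conj c).injective,
          Subgroup.card_map_of_injective C.subtype_injective, hP0]
    intro s hs
    rw [← hle] at hs
    obtain ⟨_, ⟨y, -, rfl⟩, rfl⟩ := hs
    show c * r * c⁻¹ * (c * (y : Cfsg.Spor.J2) * c⁻¹) = c * (y : Cfsg.Spor.J2) * c⁻¹ * (c * r * c⁻¹)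
    calc c * r * c⁻¹ * (c * (y : Cfsg.Spor.J2) * c⁻¹) = c * (r * y) * c⁻¹ := by group
      _ = c * (y * r) * c⁻¹ := by rw [(mem_centralizer_singleton_iff.1 y.2).symm]
      _ = _ := by group
  have hrr : r * r = 1 := by
    rw [hr, SporJ2.rbar, ← QuotientGroup.mk_mul, ← QuotientGroup.mk_one]
    refine congrArg _ (Subtype.ext ?_)
    show SporJ2.R 0 * SporJ2.R 0 = 1
    rw [mul_eq_one_iff_eq_inv, SporJ2.R_inv]
  have hr1 : r ≠ 1 := by
    intro e
    rw [hC, e] at hCcard
    have : centralizer ({(1 : Cfsg.Spor.J2)} : Set Cfsg.Spor.J2) = ⊤ :=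
      top_le_iff.1 fun x _ => mem_centralizer_singleton_iff.2 (by simp)
    rw [this, Subgroup.card_top, SporJ2.card_J2] at hCcard
    norm_num at hCcard
  have hwS : w ∈ S := by
    have hwp : IsPGroup 2 ↥(zpowers w) := by
      refine IsPGroup.of_card (n := 1) ?_
      rw [Nat.card_zpowers, pow_one]
      refine orderOf_eq_prime ?_ fun e => hr1 (conj_eq_one_iff.1 e)
      rw [pow_two, hw, show c * r * c⁻¹ * (c * r * c⁻¹) = c * (r * r) * c⁻¹ by group, hrr]
      group
    have hnorm : zpowers w ≤ normalizer (S : Set Cfsg.Spor.J2) := by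
      rw [zpowers_le, mem_normalizer_iff]
      intro s
      constructor
      · intro hs; rwa [hPle s hs, mul_inv_cancel_right]
      · intro hs
        have e := hPle _ hs
        have : w * s * w⁻¹ = s := mul_left_cancel (e.trans (by group))
        rwa [this] at hs
    have hsup : IsPGroup 2 ↥(zpowers w ⊔ (P : Subgroup Cfsg.Spor.J2)) :=
      hwp.to_sup_of_normal_right' P.2 (hP ▸ hnorm)
    exact hP ▸ (P.3 hsup le_sup_right).le (le_sup_left (a := zpowers w) (mem_zpowers w))
  have hwz : φ 1 = w := by
    rcases hD.center hwS hPle with e | e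
    · exact absurd (conj_eq_one_iff.1 e) hr1
    · exact e.symm
  have hle : ι.range ≤ centralizer ({φ 1} : Set Cfsg.Spor.J2) := by
    rintro _ ⟨g, rfl⟩
    rw [mem_centralizer_singleton_iff]
    show ι g * ι (pc 1) = ι (pc 1) * ι g
    rw [← map_mul, ← map_mul, pc_central]
  have hcard : Nat.card (centralizer ({φ 1} : Set Cfsg.Spor.J2)) ≤ Nat.card ι.range := by
    rw [← Nat.card_congr (MonoidHom.ofInjective hι).toEquiv, card_PC, ← hCcard]
    refine le_of_eq ?_
    have e : C.map (MulAut.conj c).toMonoidHom = centralizer ({φ 1} : Set Cfsg.Spor.J2) := by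
      rw [hwz]
      ext x
      rw [Subgroup.mem_map_equiv, hC, mem_centralizer_singleton_iff, mem_centralizer_singleton_iff,
        MulAut.conj_symm_apply, hw]
      constructor
      · intro h
        have h' := congrArg (fun y => c * y * c⁻¹) h
        simpa [mul_assoc] using h'
      · intro h
        have h' := congrArg (fun y => c⁻¹ * y * c) h
        simpa [mul_assoc] using h'
    rw [← e, Subgroup.card_map_of_injective (f := (MulAut.conj c).toMonoidHom) (MulAut.conj c).injective]
  exact ⟨(MonoidHom.ofInjective hι).trans (MulEquiv.subgroupCongr (Subgroup.eq_of_le_of_card_ge hle hcard))⟩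

end Cfsg.Agent.Lib.SylJ2Type51
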