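import Cfsg.Agent.Lib.SylJ2Type51.Normal
import Cfsg.Agent.Lib.SylJ2Type51.Model

/-!
# Sylow 2-subgroups of Hall-Janko type: the centraliser of a central involution (S3199)
-/

set_option autoImplicit false
set_option linter.style.haveILetI false

universe u

namespace Cfsg.Agent.Lib.SylJ2Type51

open Subgroup

theorem exists_sylData {G : Type u} [Group G] (S : Sylow 2 G) (P : Sylow 2 Cfsg.Spor.J2)
    (e : ↥(S : Subgroup G) ≃* ↥(P : Subgroup Cfsg.Spor.J2)) :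
    ∃ φ : ℕ → G, SylData (S : Subgroup G) φ := by
  haveI : Fact (Nat.Prime 2) := ⟨Nat.prime_two⟩
  haveI : Finite Cfsg.Spor.J2 := Nat.finite_of_card_ne_zero (by rw [SporJ2.card_J2]; norm_num)
  obtain ⟨P0, φ0, h0, -⟩ := exists_model
  obtain ⟨c, hc⟩ := MulAction.exists_smul_eq Cfsg.Spor.J2 P0 P
  have h1 := h0.map (MulAut.conj c).toMonoidHom fun s _ hs =>
    (MulEquiv.map_eq_one_iff (MulAut.conj c)).1 hs
  have hP : (P0 : Subgroup Cfsg.Spor.J2).map (MulAut.conj c).toMonoidHom = (P : Subgroup Cfsg.Spor.J2) := by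
    rw [← hc]; rfl
  rw [hP] at h1
  have h2 := h1.res le_rfl
  have h3 := h2.map ((S : Subgroup G).subtype.comp e.symm.toMonoidHom) fun s _ hs =>
    (MulEquiv.map_eq_one_iff e.symm).1 (Subtype.ext hs)
  rw [subgroupOf_self, ← MonoidHom.range_eq_map, MonoidHom.range_comp,
    MonoidHom.range_eq_top.2 e.symm.surjective, ← MonoidHom.range_eq_map, range_subtype] at h3
  exact ⟨_, h3⟩

theorem row3199 {G : Type u} [Group G] [Finite G]
    (S : Sylow 2 G) (P : Sylow 2 Cfsg.Spor.J2)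
    (hS : Nonempty (↥(S : Subgroup G) ≃* ↥(P : Subgroup Cfsg.Spor.J2)))
    (h2 : ∀ H : Subgroup G, H.Normal → H.index ≠ 2)
    (z : G) (hz : orderOf z = 2) (hzS : z ∈ (S : Subgroup G))
    (hzc : ∀ s ∈ (S : Subgroup G), s * z = z * s) :
    ∃ (z' : Cfsg.Spor.J2) (Q : Sylow 2 Cfsg.Spor.J2), orderOf z' = 2 ∧
      z' ∈ (Q : Subgroup Cfsg.Spor.J2) ∧
        (∀ s ∈ (Q : Subgroup Cfsg.Spor.J2), s * z' = z' * s) ∧
        Nonempty ((↥(centralizer ({z} : Set G)) ⧸ Cfsg.oddCore ↥(centralizer ({z} : Set G))) ≃*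
          ↥(centralizer ({z'} : Set Cfsg.Spor.J2))) := by
  obtain ⟨e⟩ := hS
  obtain ⟨φ, h⟩ := exists_sylData S P e
  obtain ⟨P0, φ0, h0, ⟨eP⟩⟩ := exists_model
  have hzφ : z = φ 1 := by
    rcases h.center hzS (fun t ht => (hzc t ht).symm) with e1 | e1
    · rw [e1, orderOf_one] at hz; omega
    · exact e1
  subst hzφ
  obtain ⟨e1⟩ := h.nonempty_centralizer fun N hN => h2 N (normal_of_index_eq_two hN) hN
  refine ⟨φ0 1, P0, orderOf_eq_prime (p := 2) (by rw [pow_two]; exact h0.z_sq) h0.z_ne,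
    h0.mem 1 (by norm_num), fun s hs => h0.z_comm hs, ⟨e1.trans eP⟩⟩

end Cfsg.Agent.Lib.SylJ2Type51
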