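import Cfsg.Agent.Lib.SylJ2Type51.Points
import Cfsg.Agent.Lib.EqualConj4.Basic

/-!
# The group is determined (S3199)

A finite group without odd core in which `z` is central and `Q` normal, with a Sylow 2-subgroup given by
the model and an element moving `{v₀, v₀ z}`, is the presented group of order `1920`.
-/

set_option autoImplicit false
set_option linter.unusedSectionVars false
set_option linter.style.haveILetI false
set_option maxRecDepth 20000

namespace Cfsg.Agent.Lib.SylJ2Type51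

open Subgroup Cfsg.Agent.Lib.CosetEnum
open Cfsg.Agent.Lib.HJUniq (sA sT sA_facts pt tp sA_next a5Words a5_check permW)

variable {K : Type*} [Group K] [Finite K] {S : Sylow 2 K} {φ : ℕ → K}
  (hL : Loc (S : Subgroup K) φ)
include hL

/-- The centraliser of `Q` is `⟨z⟩`. -/
theorem Loc.cent (hO : Cfsg.oddCore K = ⊥) {g : K} (hg : ∀ q ∈ qSub φ, g * q = q * g) : InZ φ g := by
  haveI : Fact (Nat.Prime 2) := ⟨Nat.prime_two⟩
  haveI hQn : (qSub φ).Normal := ⟨fun q hq k => hL.normal k q hq⟩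
  set C := centralizer ((qSub φ : Subgroup K) : Set K) with hC
  have hgC : g ∈ C := fun q hq => (hg q hq).symm
  set T := C ⊓ (S : Subgroup K) with hT
  have hTz : ∀ t ∈ T, InZ φ t := fun t ht => hL.data.cent_q ht.2 fun q hq => (ht.1 q hq).symm
  have hTc : ∀ t ∈ T, ∀ c ∈ C, t * c = c * t := fun t ht c _ => by
    rcases hTz t ht with rfl | rfl
    · rw [one_mul, mul_one]
    · exact (hL.central c).symm
  -- a 2-subgroup of `C` above `T` is `T`
  have hodd : Odd (T.relIndex C) := by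
    rw [Nat.odd_iff, ← Nat.two_dvd_ne_zero]
    intro h2
    obtain ⟨P, hP⟩ := (S.2.to_le (inf_le_right : T ≤ _)).comap_of_injective C.subtype
      C.subtype_injective |>.exists_le_sylow
    obtain ⟨m, hm⟩ := ((P.2.map C.subtype).exists_le_sylow)
    obtain ⟨x, hx⟩ := MulAction.exists_smul_eq K m S
    have hle : (P : Subgroup ↥C) ≤ T.comap C.subtype := by
      intro p hp
      have h1 : x * (p : K) * x⁻¹ ∈ T := by
        refine ⟨?_, ?_⟩
        · exact (inferInstance : C.Normal).conj_mem _ p.2 x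
        · rw [← hx]
          exact Subgroup.smul_mem_pointwise_smul _ (MulAut.conj x) (m : Subgroup K) (hm ⟨p, hp, rfl⟩)
      rcases hTz _ h1 with e | e
      · show (p : K) ∈ T
        rw [conj_eq_one_iff.1 e]; exact one_mem _
      · have e1 : (p : K) = φ 1 := by
          calc (p : K) = x⁻¹ * (x * p * x⁻¹) * x := by group
            _ = x⁻¹ * φ 1 * x⁻¹⁻¹ := by rw [e, inv_inv]
            _ = φ 1 := hL.conj_z x⁻¹
        show (p : K) ∈ T
        refine ⟨p.2, ?_⟩
        rw [e1]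
        exact hL.data.mem 1 (by norm_num)
    have := P.not_dvd_index
    rw [le_antisymm hle hP] at this
    exact this (by rw [Subgroup.comap_subtype, ← Subgroup.relIndex] at *; exact h2)
  have hCT := EqualConj4.eq_of_central hO (C := C) (T := T) inf_le_left hTc (S.2.to_le inf_le_right) hodd
  exact hTz g (hCT ▸ hgC)

theorem Loc.cent_pts (hO : Cfsg.oddCore K = ⊥) {g : K} (hg : ∀ i, g * pts φ i = pts φ i * g) :
    InZ φ g := by
  refine hL.cent hO fun q hq => ?_
  exact (mem_centralizer_singleton_iff.1 (hL.data.qSub_le_of_pts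
    (P := centralizer ({g} : Set K)) (mem_centralizer_singleton_iff.2 (hL.central g).symm)
    (fun i => mem_centralizer_singleton_iff.2 (hg i).symm) hq)).symm

/-- The permutation representation has kernel `Q`. -/
theorem Loc.mem_of_pr (hO : Cfsg.oddCore K = ⊥) {g : K} (hg : hL.pr g = 1) : g ∈ qSub φ := by
  classical
  have hgi : ∀ i, Goes φ g i i := fun i => by
    have := hL.pr_spec g i
    rwa [hg] at this
  obtain ⟨q, hq, hsign⟩ := hL.data.exists_sign fun i =>
    decide (g * pts φ i.castSucc * g⁻¹ = pts φ i.castSucc * φ 1)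
  have hqg : ∀ i : Fin 4, g * pts φ i.castSucc * g⁻¹ = q * pts φ i.castSucc * q⁻¹ := by
    intro i
    have e : q * pts φ i.castSucc * q⁻¹ =
        (if decide (g * pts φ i.castSucc * g⁻¹ = pts φ i.castSucc * φ 1) then φ 1 else 1) *
          pts φ i.castSucc := by
      rw [← hsign i, inv_mul_cancel_right]
    rw [e]
    by_cases hc : g * pts φ i.castSucc * g⁻¹ = pts φ i.castSucc * φ 1
    · rw [if_pos (by simpa using hc), hc, hL.central]
    · rw [if_neg (by simpa using hc), one_mul]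
      exact (hgi i.castSucc).resolve_right hc
  have hP : qSub φ ≤ centralizer ({q⁻¹ * g} : Set K) := by
    have hcast : ∀ i : Fin 4, pts φ i.castSucc ∈ centralizer ({q⁻¹ * g} : Set K) := by
      intro i
      rw [mem_centralizer_singleton_iff]
      calc pts φ i.castSucc * (q⁻¹ * g) = q⁻¹ * (q * pts φ i.castSucc * q⁻¹) * g := by group
        _ = q⁻¹ * (g * pts φ i.castSucc * g⁻¹) * g := by rw [hqg]
        _ = q⁻¹ * g * pts φ i.castSucc := by group
    refine hL.data.qSub_le_of_pts (mem_centralizer_singleton_iff.2 (hL.central _).symm) ?_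
    have h4 : pts φ 4 ∈ centralizer ({q⁻¹ * g} : Set K) := by
      have e : pts φ 4 = (pts φ 0 * pts φ 1 * pts φ 2 * pts φ 3)⁻¹ :=
        eq_inv_of_mul_eq_one_right hL.data.pts_prod
      rw [e]
      exact inv_mem (mul_mem (mul_mem (mul_mem (hcast 0) (hcast 1)) (hcast 2)) (hcast 3))
    intro i
    fin_cases i
    exacts [hcast 0, hcast 1, hcast 2, hcast 3, h4]
  have := hL.cent hO fun y hy => (mem_centralizer_singleton_iff.1 (hP hy)).symm
  have h1 := mul_mem hq (hL.data.inZ_mem this)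
  rwa [mul_inv_cancel_left] at h1

/-- Recognition. -/
theorem Loc.nonempty_PC (hO : Cfsg.oddCore K = ⊥) {n : K}
    (hn : ¬ (n * φ 2 * n⁻¹ = φ 2 ∨ n * φ 2 * n⁻¹ = φ 3)) : Nonempty (K ≃* HJUniq.PC) := by
  classical
  haveI : Fact (Nat.Prime 2) := ⟨Nat.prime_two⟩
  have hD := hL.data
  obtain ⟨hsA, hsA5, hsA0, hsT, hsT1, hsT2, hsAT, htp⟩ := sA_facts
  have hrange := hL.range_pr hn
  -- the order
  have hker : hL.pr.ker = qSub φ :=
    le_antisymm (fun g hg => hL.mem_of_pr hO hg) fun q hq => hL.pr_q hq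
  have hcard : Nat.card K = 1920 := by
    rw [← hL.pr.ker.card_mul_index, Subgroup.index_ker, hker, hD.card_qSub, hrange, card_alt_five]
  -- `a`
  obtain ⟨c, hc⟩ : sA ∈ hL.pr.range := hrange ▸ Equiv.Perm.mem_alternatingGroup.2 hsA
  set a := c ^ 16 with ha
  have hq4 : ∀ q ∈ qSub φ, q ^ 4 = 1 := fun q hq => by
    rw [show (4 : ℕ) = 2 * 2 from rfl, pow_mul, pow_two q]
    rcases hD.q_sq hq with e | e <;> rw [e, pow_two]
    · rw [one_mul]
    · exact hD.z_sq
  have ha5 : a ^ 5 = 1 := by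
    rw [ha, ← pow_mul, show 16 * 5 = 5 * 4 * 4 from rfl, pow_mul, pow_mul,
      hq4 (c ^ 5) (hL.mem_of_pr hO (by rw [map_pow, hc, hsA5])), one_pow]
  have haσ : hL.pr a = sA := by
    rw [ha, map_pow, hc, show (16 : ℕ) = 5 * 3 + 1 from rfl, pow_add, pow_mul, hsA5, one_pow, one_mul,
      pow_one]
  -- `q`
  have hp0 : ∀ i : Fin 5, pt a (pts φ 0) i = pts φ i ∨ pt a (pts φ 0) i = pts φ i * φ 1 := by
    intro i
    have h1 := hL.pr_spec (a ^ (i : ℕ)) 0
    rw [map_pow, haσ, hsA0] at h1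
    exact h1
  have hzz : ∀ x : K, x * φ 1 * φ 1 = x := fun x => by rw [mul_assoc, hD.z_sq, mul_one]
  have hprod0 : InZ φ (pt a (pts φ 0) (0 : Fin 5) * pt a (pts φ 0) (1 : Fin 5) *
      pt a (pts φ 0) (2 : Fin 5) * pt a (pts φ 0) (3 : Fin 5) * pt a (pts φ 0) (4 : Fin 5)) := by
    have step : ∀ {x x' y y' : K}, (x = y ∨ x = y * φ 1) → (x' = y' ∨ x' = y' * φ 1) →
        (x * x' = y * y' ∨ x * x' = y * y' * φ 1) := by
      rintro x x' y y' (rfl | rfl) (rfl | rfl)
      · exact Or.inl rfl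
      · exact Or.inr (by rw [mul_assoc])
      · exact Or.inr (by rw [mul_assoc, ← hL.central, mul_assoc])
      · left; rw [mul_assoc y (φ 1), ← mul_assoc (φ 1), ← hL.central, hzz]
    have := step (step (step (step (hp0 0) (hp0 1)) (hp0 2)) (hp0 3)) (hp0 4)
    rwa [hD.pts_prod, one_mul] at this
  obtain ⟨q, hp, hprod⟩ : ∃ q, (∀ i : Fin 5, pt a q i = pts φ i ∨ pt a q i = pts φ i * φ 1) ∧
      pt a q (0 : Fin 5) * pt a q (1 : Fin 5) * pt a q (2 : Fin 5) * pt a q (3 : Fin 5) *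
        pt a q (4 : Fin 5) = 1 := by
    rcases hprod0 with e | e
    · exact ⟨_, hp0, e⟩
    have hpz : ∀ k : ℕ, pt a (pts φ 0 * φ 1) k = pt a (pts φ 0) k * φ 1 := fun k =>
      HJUniq.pt_mul_central (hL.central a : Commute a (φ 1)) k
    refine ⟨pts φ 0 * φ 1, fun i => ?_, ?_⟩
    · rw [hpz]
      rcases hp0 i with e1 | e1 <;> rw [e1]
      · exact Or.inr rfl
      · exact Or.inl (hzz _)
    · simp only [hpz]
      generalize pt a (pts φ 0) ((0 : Fin 5) : ℕ) = x0, pt a (pts φ 0) ((1 : Fin 5) : ℕ) = x1,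
        pt a (pts φ 0) ((2 : Fin 5) : ℕ) = x2, pt a (pts φ 0) ((3 : Fin 5) : ℕ) = x3,
        pt a (pts φ 0) ((4 : Fin 5) : ℕ) = x4 at e ⊢
      calc x0 * φ 1 * (x1 * φ 1) * (x2 * φ 1) * (x3 * φ 1) * (x4 * φ 1)
          = x0 * (φ 1 * x1) * φ 1 * x2 * (φ 1 * x3) * φ 1 * x4 * φ 1 := by group
        _ = x0 * (x1 * φ 1) * φ 1 * x2 * (x3 * φ 1) * φ 1 * x4 * φ 1 := by
            rw [hL.central x1, hL.central x3]
        _ = x0 * x1 * x2 * x3 * x4 * φ 1 := by simp only [← mul_assoc, hzz]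
        _ = 1 := by rw [e, hD.z_sq]
  set v : Fin 5 → K := fun i => pt a q i with hv
  have hvp : ∀ i, v i = pts φ i ∨ v i = pts φ i * φ 1 := hp
  have hcommz : ∀ x y : K, x * (y * φ 1) = x * y * φ 1 := fun x y => (mul_assoc x y _).symm
  -- conjugation of the `v`s
  have hgoes : ∀ (g : K) (i : Fin 5), g * v i * g⁻¹ = v (hL.pr g i) ∨
      g * v i * g⁻¹ = v (hL.pr g i) * φ 1 := by
    intro g i
    have h2 : g * (pts φ i * φ 1) * g⁻¹ = g * pts φ i * g⁻¹ * φ 1 := by
      rw [show g * (pts φ i * φ 1) * g⁻¹ = g * pts φ i * g⁻¹ * (g * φ 1 * g⁻¹) by group, hL.conj_z]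
    rcases hvp i with e1 | e1 <;> rcases hvp (hL.pr g i) with e2 | e2 <;>
      rcases hL.pr_spec g i with e | e <;> rw [e1, e2] <;>
      simp only [h2, e, hzz, true_or, or_true]
  have hanti : ∀ i j : Fin 5, i ≠ j → v i * v j = v j * v i * φ 1 := by
    intro i j hij
    have hb : pts φ i * pts φ j = pts φ j * pts φ i * φ 1 := by
      have e := hD.pts_com hij
      rw [mul_inv_eq_iff_eq_mul, mul_inv_eq_iff_eq_mul] at e
      rw [e, hL.central, ← mul_assoc]
    have c1 : ∀ x y : K, x * φ 1 * y = x * y * φ 1 := fun x y => by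
      rw [mul_assoc x, ← hL.central, ← mul_assoc]
    rcases hvp i with e | e <;> rcases hvp j with e' | e' <;> rw [e, e'] <;>
      simp only [hcommz, c1, hzz, hb]
  have hvsq : ∀ i, v i * v i = 1 := by
    intro i
    rcases hvp i with e | e <;> rw [e]
    · exact hD.pts_sq i
    · rw [mul_assoc, ← mul_assoc (φ 1), ← hL.central, mul_assoc, hD.z_sq, mul_one, hD.pts_sq]
  have hvcent : ∀ g : K, (∀ i, g * v i * g⁻¹ = v i) → InZ φ g := by
    intro g hg
    refine hL.cent_pts hO fun i => ?_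
    have h1 := mul_inv_eq_iff_eq_mul.1 (hg i)
    rcases hvp i with e | e <;> rw [e] at h1
    · exact h1
    · rw [hcommz, mul_assoc (pts φ i), ← hL.central g, hcommz] at h1
      exact mul_right_cancel h1
  -- `t`
  obtain ⟨hτ, -⟩ := hL.pr_tu
  obtain ⟨s0, s1, s2, s3, s4⟩ := HJUniq.sT_vals
  set τ := φ 32 with hτdef
  -- the sign at the point `j` is the one at its preimage
  obtain ⟨w, hw, hsign⟩ := hD.exists_sign fun i =>
    decide (τ * v (sT i.castSucc) * τ⁻¹ = v i.castSucc * φ 1)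
  have hfix : ∀ i : Fin 4, w * τ * v (sT i.castSucc) * (w * τ)⁻¹ = v i.castSucc := by
    intro i
    have hTT : sT (sT i.castSucc) = i.castSucc := by
      rw [← Equiv.Perm.mul_apply, hsT2, Equiv.Perm.one_apply]
    have hg' := hgoes τ (sT i.castSucc)
    rw [hτ, hTT] at hg'
    have e : w * v i.castSucc * w⁻¹ =
        v i.castSucc * (if decide (τ * v (sT i.castSucc) * τ⁻¹ = v i.castSucc * φ 1) then φ 1 else 1) := by
      have e0 : w * pts φ i.castSucc * w⁻¹ = pts φ i.castSucc *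
          (if decide (τ * v (sT i.castSucc) * τ⁻¹ = v i.castSucc * φ 1) then φ 1 else 1) := by
        have := hsign i
        rw [mul_inv_eq_iff_eq_mul] at this
        rw [this]
        split_ifs
        · exact (hL.central _).symm
        · rw [one_mul, mul_one]
      rcases hvp i.castSucc with e1 | e1
      · rw [e1] at e0 ⊢; exact e0
      · rw [show w * v i.castSucc * w⁻¹ = w * pts φ i.castSucc * w⁻¹ * φ 1 by
          rw [e1, hcommz, mul_assoc _ (φ 1), ← hL.central, ← mul_assoc], e0, e1]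
        split_ifs <;> simp only [one_mul, mul_one, mul_assoc]
    rw [show w * τ * v (sT i.castSucc) * (w * τ)⁻¹ = w * (τ * v (sT i.castSucc) * τ⁻¹) * w⁻¹ by group]
    by_cases hc : τ * v (sT i.castSucc) * τ⁻¹ = v i.castSucc * φ 1
    · rw [if_pos (decide_eq_true hc)] at e
      rw [hc, show w * (v i.castSucc * φ 1) * w⁻¹ = w * v i.castSucc * w⁻¹ * (w * φ 1 * w⁻¹) by group,
        hL.conj_z, e, hzz]
    · rw [if_neg (fun h => hc (of_decide_eq_true h)), mul_one] at e
      rw [hg'.resolve_right hc, e]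
  set t₁ := w * τ with ht₁
  have f0 : t₁ * v 0 * t₁⁻¹ = v 0 := by have := hfix 0; rwa [show sT ((0 : Fin 4).castSucc) = 0 from s0] at this
  have f2 : t₁ * v 2 * t₁⁻¹ = v 1 := by have := hfix 1; rwa [show sT ((1 : Fin 4).castSucc) = 2 from s1] at this
  have f1 : t₁ * v 1 * t₁⁻¹ = v 2 := by have := hfix 2; rwa [show sT ((2 : Fin 4).castSucc) = 1 from s2] at this
  have f4 : t₁ * v 4 * t₁⁻¹ = v 3 := by have := hfix 3; rwa [show sT ((3 : Fin 4).castSucc) = 4 from s3] at this
  have hperm : v 0 * v 2 * v 1 * v 4 * v 3 = 1 := by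
    rw [show v 0 * v 2 * v 1 * v 4 * v 3 = v 0 * (v 2 * v 1) * (v 4 * v 3) by group,
      hanti 2 1 (by decide), hanti 4 3 (by decide),
      show v 0 * (v 1 * v 2 * φ 1) * (v 3 * v 4 * φ 1) =
        v 0 * v 1 * v 2 * (φ 1 * (v 3 * v 4)) * φ 1 by group, ← hL.central, ← mul_assoc, hzz,
      ← mul_assoc]
    exact hprod
  have f3 : t₁ * v 3 * t₁⁻¹ = v 4 := by
    have e3 : v 3 = (v 0 * v 1 * v 2)⁻¹ * (v 4)⁻¹ := by
      rw [eq_mul_inv_iff_mul_eq]
      refine eq_inv_of_mul_eq_one_right ?_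
      rw [← mul_assoc]
      exact hprod
    calc t₁ * v 3 * t₁⁻¹ = (t₁ * v 0 * t₁⁻¹ * (t₁ * v 1 * t₁⁻¹) * (t₁ * v 2 * t₁⁻¹))⁻¹ *
          (t₁ * v 4 * t₁⁻¹)⁻¹ := by rw [e3]; group
      _ = (v 0 * v 2 * v 1)⁻¹ * (v 3)⁻¹ := by rw [f0, f1, f2, f4]
      _ = v 4 := by
          rw [eq_comm, eq_mul_inv_iff_mul_eq]
          refine eq_inv_of_mul_eq_one_right ?_
          rw [← mul_assoc]
          exact hperm
  have htv : ∀ i, t₁ * v i * t₁⁻¹ = v (sT i) := by
    intro i
    fin_cases i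
    · exact f0.trans (congrArg v s0.symm)
    · exact f1.trans (congrArg v s1.symm)
    · exact f2.trans (congrArg v s2.symm)
    · exact f3.trans (congrArg v s3.symm)
    · exact f4.trans (congrArg v s4.symm)
  have ht1σ : hL.pr t₁ = sT := by rw [ht₁, map_mul, hL.pr_q hw, one_mul, hτ]
  have ht1S : t₁ ∈ (S : Subgroup K) := mul_mem (hD.qSub_le hw) (hD.mem 32 (by norm_num))
  have ht1Q : t₁ ∉ qSub φ := fun e => hsT1 (ht1σ ▸ hL.pr_q e)
  have comp : ∀ {x y : K} {σ ρ : Equiv.Perm (Fin 5)}, (∀ i, x * v i * x⁻¹ = v (σ i)) →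
      (∀ i, y * v i * y⁻¹ = v (ρ i)) → ∀ i, x * y * v i * (x * y)⁻¹ = v ((σ * ρ) i) := by
    intro x y σ ρ hx hy i
    rw [Equiv.Perm.mul_apply, show x * y * v i * (x * y)⁻¹ = x * (y * v i * y⁻¹) * x⁻¹ by group, hy, hx]
  have ht12 : t₁ * t₁ = 1 := (hD.out ht1S ht1Q (hvcent _ fun i => by
    rw [comp htv htv, hsT2, Equiv.Perm.one_apply])).1
  have hav : ∀ i, a * v i * a⁻¹ = v (sA i) := fun i => by
    have e : pt a q ((i : ℕ) + 1) = a * pt a q i * a⁻¹ := by rw [pt, pt, pow_succ']; group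
    show a * pt a q i * a⁻¹ = pt a q (sA i : Fin 5)
    rw [← e, ← sA_next i, pt, pt, pow_eq_pow_mod ((i : ℕ) + 1) ha5]
  have h3 : InZ φ ((a * t₁) ^ 3) := hvcent _ fun i => by
    rw [pow_succ, pow_two, comp (comp (comp hav htv) (comp hav htv)) (comp hav htv)]
    rw [show sA * sT * (sA * sT) * (sA * sT) = 1 by rw [← hsAT, pow_succ, pow_two], Equiv.Perm.one_apply]
  obtain ⟨t, ht2, htσ, htv', hat⟩ : ∃ t, t * t = 1 ∧ hL.pr t = sT ∧
      (∀ i, t * v i * t⁻¹ = v (sT i)) ∧ (a * t) ^ 3 = 1 := by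
    rcases h3 with e | e
    · exact ⟨t₁, ht12, ht1σ, htv, e⟩
    refine ⟨t₁ * φ 1, ?_, by rw [map_mul, ht1σ, hL.pr_q hD.z_mem, mul_one], fun i => ?_, ?_⟩
    · rw [show t₁ * φ 1 * (t₁ * φ 1) = t₁ * (φ 1 * t₁) * φ 1 by group, ← hL.central, ← mul_assoc, hzz,
        ht12]
    · rw [show t₁ * φ 1 * v i * (t₁ * φ 1)⁻¹ = t₁ * (φ 1 * v i * (φ 1)⁻¹) * t₁⁻¹ by group,
        ← hL.central, mul_inv_cancel_right, htv]
    · rw [← mul_assoc, Commute.mul_pow (hL.central _), e, show (3 : ℕ) = 2 + 1 from rfl, pow_succ (φ 1),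
        pow_two, hD.z_sq, one_mul, hD.z_sq]
  -- the relators
  have hv0 : v 0 = q := by simp [hv, pt]
  have hrels : HJUniq.Rels (φ 1) a t q :=
    { ha := ha5, ht := ht2, hq := hv0 ▸ hvsq 0, hat := hat
      htu := fun i hi => by
        have := htv' ⟨i, hi⟩
        simp only [hv] at this
        rwa [htp ⟨i, hi⟩] at this
      hz := hD.z_sq, za := (hL.central a).symm, zt := (hL.central t).symm
      zq := (hL.central q).symm
      anti := fun i j hi hj hij => by
        have hne : (⟨i, hi⟩ : Fin 5) ≠ ⟨j, hj⟩ := fun e => hij (congrArg Fin.val e)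
        have e : pt a q i * pt a q j = pt a q j * pt a q i * φ 1 := hanti _ _ hne
        have si : pt a q i * pt a q i = 1 := hvsq ⟨i, hi⟩
        have sj : pt a q j * pt a q j = 1 := hvsq ⟨j, hj⟩
        calc pt a q i * pt a q j * (pt a q i * pt a q j)
            = pt a q i * pt a q j * (pt a q j * pt a q i * φ 1) := by rw [← e]
          _ = pt a q i * (pt a q j * pt a q j) * pt a q i * φ 1 := by group
          _ = φ 1 := by rw [sj, mul_one, si, one_mul]
      prod := hprod }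
  obtain ⟨σ, -, hσr⟩ := hrels.exists_hom
  -- generation
  set P := Subgroup.closure {a, t, q} with hP
  have haP : a ∈ P := Subgroup.subset_closure (by simp)
  have htP : t ∈ P := Subgroup.subset_closure (by simp)
  have hqP : q ∈ P := Subgroup.subset_closure (by simp)
  have hvP : ∀ i, v i ∈ P := fun i => mul_mem (mul_mem (pow_mem haP _) hqP) (inv_mem (pow_mem haP _))
  have hzP : φ 1 ∈ P := by
    have := hrels.anti 0 1 (by norm_num) (by norm_num) (by norm_num)
    rw [← this]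
    exact mul_mem (mul_mem (hvP 0) (hvP 1)) (mul_mem (hvP 0) (hvP 1))
  have hQP : qSub φ ≤ P := hD.qSub_le_of_pts hzP fun i => by
    rcases hvp i with e | e
    · exact e ▸ hvP i
    · have := mul_mem (hvP i) hzP
      rwa [e, hzz] at this
  have htop : P = ⊤ := by
    refine top_le_iff.1 fun x _ => ?_
    have hx : hL.pr x ∈ alternatingGroup (Fin 5) := hrange ▸ ⟨x, rfl⟩
    obtain ⟨l, -, hl⟩ := a5_check (hL.pr x) (Equiv.Perm.mem_alternatingGroup.1 hx)
    have key : ∀ l : List ℕ, ∃ y ∈ P, hL.pr y = permW l := by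
      intro l
      induction l with
      | nil => exact ⟨1, one_mem _, map_one _⟩
      | cons g l ih =>
        obtain ⟨y, hy, hyp⟩ := ih
        refine ⟨(if g = 0 then a else t) * y, mul_mem ?_ hy, ?_⟩
        · split_ifs
          exacts [haP, htP]
        · rw [map_mul, hyp, permW, permW, List.map_cons, List.prod_cons]
          split_ifs
          · rw [haσ]
          · rw [htσ]
    obtain ⟨y, hy, hyp⟩ := key l
    have h1 : x * y⁻¹ ∈ qSub φ := hL.mem_of_pr hO (by
      rw [map_mul, map_inv, hyp, hl, mul_inv_cancel])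
    simpa using mul_mem (hQP h1) hy
  have hsurj : Function.Surjective σ := by
    rw [← MonoidHom.range_eq_top, hσr]; exact htop
  haveI : Finite HJUniq.PC := Nat.finite_of_card_ne_zero (by rw [HJUniq.card_PC]; omega)
  exact ⟨(MulEquiv.ofBijective σ ((Nat.bijective_iff_surjective_and_card _).2
    ⟨hsurj, by rw [HJUniq.card_PC, hcard]⟩)).symm⟩

end Cfsg.Agent.Lib.SylJ2Type51
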