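import Cfsg.Agent.Lib.SylJ2Type51.Trans
import Cfsg.Agent.Lib.SylJ2Type51.Fusion
import Cfsg.Agent.Lib.SylJ2Type51.Uniq
import Cfsg.Agent.Lib.CentResidual33.Step
import Cfsg.Agent.S2775

/-!
# `Q` is normal in `C(z)` modulo its core (S3199)

Modulo `⟨z⟩` the image `E` of `Q` is strongly closed and abelian.  By Goldschmidt's theorem it is a Sylow
2-subgroup of its normal closure, where it is central in its normaliser, so by Burnside it is normal.
-/

set_option autoImplicit false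
set_option linter.unusedSectionVars false
set_option linter.style.haveILetI false
set_option maxRecDepth 20000

universe u

namespace Cfsg.Agent.Lib.SylJ2Type51

open Subgroup Cfsg.Agent.Lib.CosetEnum

theorem sq_inQ : allBelow 128 (fun x => inQ (mul x x) &&
    Nat.beq (mul (x % 32) (32 * (x / 32))) x) = true := by decide +kernel

theorem outer_sq : allBelow 4 (fun k => Nat.beq (mul (32 * k) (32 * k)) 0) = true := by decide +kernel

variable {X : Type u} [Group X] [Finite X] {S : Sylow 2 X} {φ : ℕ → X}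

/-- In a group without odd core in which `z` is central, `Q` is normal. -/
theorem SylData.normal_qSub (h : SylData (S : Subgroup X) φ) (hc : ∀ g, g * φ 1 = φ 1 * g)
    (hO : Cfsg.oddCore X = ⊥) {n : X} (hn : (qSub φ).map (MulAut.conj n).toMonoidHom = qSub φ)
    (hn2 : ¬ (n * φ 2 * n⁻¹ = φ 2 ∨ n * φ 2 * n⁻¹ = φ 3)) :
    ∀ g, ∀ q ∈ qSub φ, g * q * g⁻¹ ∈ qSub φ := by
  haveI : Fact (Nat.Prime 2) := ⟨Nat.prime_two⟩
  set Q := qSub φ with hQ
  set Z := zpowers (φ 1) with hZ
  have hZc : Z ≤ Subgroup.center X := zpowers_le.2 (mem_center_iff.2 hc)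
  haveI hZn : Z.Normal := ⟨fun x hx g => by
    rw [mem_center_iff.1 (hZc hx) g, mul_inv_cancel_right]; exact hx⟩
  have hZQ : Z ≤ Q := zpowers_le.2 h.z_mem
  have hQS : Q ≤ (S : Subgroup X) := h.qSub_le
  have hmemZ : ∀ g, InZ φ g → g ∈ Z := by
    rintro g (rfl | rfl)
    exacts [one_mem _, mem_zpowers _]
  set π := QuotientGroup.mk' Z with hπ
  have hsurj : Function.Surjective π := QuotientGroup.mk'_surjective Z
  have hker : π.ker = Z := QuotientGroup.ker_mk' Z
  set T : Sylow 2 (X ⧸ Z) := S.mapSurjective hsurj with hT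
  have hTS : (T : Subgroup (X ⧸ Z)) = (S : Subgroup X).map π := Sylow.coe_mapSurjective _ _
  set E := Q.map π with hE
  have hpiQ : ∀ g, π g ∈ E → g ∈ Q := by
    rintro g ⟨q, hq, e⟩
    have : q⁻¹ * g ∈ π.ker := by rw [MonoidHom.mem_ker, _root_.map_mul, _root_.map_inv, e, inv_mul_cancel]
    rw [hker] at this
    simpa using mul_mem hq (hZQ this)
  have hpiS : ∀ g, π g ∈ (T : Subgroup (X ⧸ Z)) → g ∈ (S : Subgroup X) := by
    intro g hg
    rw [hTS] at hg
    obtain ⟨s, hs, e⟩ := hg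
    have : s⁻¹ * g ∈ π.ker := by rw [MonoidHom.mem_ker, _root_.map_mul, _root_.map_inv, e, inv_mul_cancel]
    rw [hker] at this
    simpa using mul_mem hs (hQS (hZQ this))
  have hEab : IsMulCommutative ↥E := ⟨⟨by
    rintro ⟨_, a, ha, rfl⟩ ⟨_, b, hb, rfl⟩
    refine Subtype.ext ?_
    show π a * π b = π b * π a
    rw [← _root_.map_mul, ← _root_.map_mul, QuotientGroup.mk'_eq_mk']
    refine ⟨b⁻¹ * a⁻¹ * b * a, hmemZ _ ?_, by group⟩
    have := h.q_comm (inv_mem hb) (inv_mem ha)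
    rwa [inv_inv, inv_inv] at this⟩⟩
  -- `E` is strongly closed
  have hsc : Cfsg.IsStronglyClosed E (T : Subgroup (X ⧸ Z)) := by
    refine ⟨by rw [hTS]; exact map_mono hQS, ?_⟩
    rintro _ ⟨q, hq, rfl⟩ g hg
    obtain ⟨c, rfl⟩ := hsurj g
    rw [← _root_.map_inv, ← _root_.map_mul, ← _root_.map_mul] at hg ⊢
    refine ⟨c * q * c⁻¹, ?_, rfl⟩
    by_contra hout
    refine h.not_conj_out (hpiS _ hg) hout ?_ (c := c⁻¹) (hc _) ?_
    · rw [show c * q * c⁻¹ * (c * q * c⁻¹) = c * (q * q) * c⁻¹ by group]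
      exact h.conj_inZ (hc c) (h.q_sq hq)
    · rw [inv_inv, show c⁻¹ * (c * q * c⁻¹) * c = q by group]
      exact hq
  -- no odd core
  have hOY : Cfsg.pPrimeCore 2 (X ⧸ Z) = ⊥ := by
    set O := Cfsg.pPrimeCore 2 (X ⧸ Z) with hOdef
    haveI : O.Normal := by rw [hOdef]; infer_instance
    have hZO : Z ≤ O.comap π := fun x hx => by
      rw [mem_comap, show π x = 1 from MonoidHom.mem_ker.1 (hker.symm ▸ hx)]; exact one_mem _
    have hodd : Odd (Z.relIndex (O.comap π)) := by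
      have h3 := Subgroup.relIndex_comap (⊥ : Subgroup (X ⧸ Z)) π (O.comap π)
      rw [MonoidHom.comap_bot, hker, map_comap_eq_self_of_surjective hsurj, relIndex_bot_left] at h3
      rw [h3]
      exact Nat.odd_iff.2 (Nat.two_dvd_ne_zero.1 (Cores.not_dvd_card_pPrimeCore 2))
    have e := EqualConj4.eq_of_central hO hZO (fun t ht c _ => (mem_center_iff.1 (hZc ht) c).symm)
      (S.2.to_le (hZQ.trans hQS)) hodd
    rw [← map_comap_eq_self_of_surjective hsurj O, e, hπ, QuotientGroup.map_mk'_self]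
  set K := normalClosure (E : Set (X ⧸ Z)) with hK
  have hEK : E ≤ K := le_normalClosure
  have hOK : Cfsg.pPrimeCore 2 ↥K = ⊥ := CentResidual33.pPrimeCore_normal_eq_bot hOY K
  obtain ⟨-, -, ⟨T', hET', hEeq⟩, -⟩ := Cfsg.Agent.S2775.result T E hEab hsc K hK ↥K (MonoidHom.id _)
    Function.surjective_id ((MonoidHom.ker_eq_bot_iff _).2 Function.injective_id |>.trans hOK.symm)
  rw [Subgroup.map_id] at hET' hEeq
  -- `E` is a Sylow subgroup of `K`
  have hT'E : (T' : Subgroup ↥K) = E.subgroupOf K := by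
    refine le_antisymm (fun x hx => ?_) hET'
    by_contra hxE
    set P := (T' : Subgroup ↥K).map K.subtype with hP
    obtain ⟨P', hP'⟩ := (T'.2.map K.subtype).exists_le_sylow
    obtain ⟨g, hg⟩ := MulAction.exists_smul_eq (X ⧸ Z) P' T
    have hgP : ∀ p ∈ P, g * p * g⁻¹ ∈ (T : Subgroup (X ⧸ Z)) := fun p hp => by
      rw [← hg]
      exact Subgroup.smul_mem_pointwise_smul _ (MulAut.conj g) (P' : Subgroup (X ⧸ Z)) (hP' hp)
    have hEP : E ≤ P := fun e he => ⟨⟨e, hEK he⟩, hET' he, rfl⟩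
    have hgE : E.map (MulAut.conj g).toMonoidHom = E := by
      refine Subgroup.eq_of_le_of_card_ge ?_ (le_of_eq (Nat.card_congr
        (equivMapOfInjective _ _ (MulAut.conj g).injective).toEquiv))
      rintro _ ⟨e, he, rfl⟩
      exact hsc.2 e he g (hgP e (hEP he))
    have hyP : g * (x : X ⧸ Z) * g⁻¹ ∈ (T : Subgroup (X ⧸ Z)) := hgP _ ⟨x, hx, rfl⟩
    rw [hTS] at hyP
    obtain ⟨s, hs, hsy⟩ := hyP
    obtain ⟨k, hk, rfl⟩ := h.surj s hs
    have hc1 := below_iff.1 sq_inQ k hk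
    rw [Bool.and_eq_true, Nat.beq_eq] at hc1
    set w := π (φ (32 * (k / 32))) with hw
    have hm : k % 32 < 128 := lt_trans (Nat.mod_lt _ (by norm_num)) (by norm_num)
    have hk4 : k / 32 < 4 := by omega
    have hek : π (φ (k % 32)) * w = g * (x : X ⧸ Z) * g⁻¹ := by
      rw [← hsy, hw, ← _root_.map_mul, ← h.map_mul _ hm _ (by omega), hc1.2]
    have heE : π (φ (k % 32)) ∈ E :=
      ⟨_, h.mem_qSub_iff.2 ⟨_, Nat.mod_lt _ (by norm_num), rfl⟩, rfl⟩
    have hw2 : w * w = 1 := by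
      rw [hw, ← _root_.map_mul, ← h.map_mul _ (by omega) _ (by omega),
        Nat.eq_of_beq_eq_true (below_iff.1 outer_sq _ hk4), h.map_zero, _root_.map_one]
    -- `g⁻¹ w g` is an involution of `T'`
    have he' : g⁻¹ * π (φ (k % 32)) * g ∈ E := by
      rw [← hgE] at heE
      obtain ⟨e, he, e1⟩ := heE
      rw [← e1]
      show g⁻¹ * (g * e * g⁻¹) * g ∈ E
      rw [show g⁻¹ * (g * e * g⁻¹) * g = e by group]
      exact he
    have hwx : g⁻¹ * w * g = (g⁻¹ * π (φ (k % 32)) * g)⁻¹ * (x : X ⧸ Z) := by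
      rw [eq_inv_mul_iff_mul_eq, show g⁻¹ * π (φ (k % 32)) * g * (g⁻¹ * w * g) =
        g⁻¹ * (π (φ (k % 32)) * w) * g by group, hek]
      group
    set y : ↥K := (⟨_, hEK he'⟩ : ↥K)⁻¹ * x with hy
    have hyE : y ∈ E.subgroupOf K := by
      have hy1 : y ∈ Cfsg.omegaOne 2 (T' : Subgroup ↥K) := by
        refine Subgroup.subset_closure ⟨mul_mem (inv_mem (hET' he')) hx, Subtype.ext ?_⟩
        show ((g⁻¹ * π (φ (k % 32)) * g)⁻¹ * (x : X ⧸ Z)) ^ 2 = 1
        rw [← hwx, pow_two, show g⁻¹ * w * g * (g⁻¹ * w * g) = g⁻¹ * (w * w) * g by group, hw2]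
        group
      rw [hEeq]
      exact le_sup_right (a := Cfsg.pCore 2 ↥K) hy1
    refine hxE ?_
    have := mul_mem (show (⟨_, hEK he'⟩ : ↥K) ∈ E.subgroupOf K from he') hyE
    rwa [hy, mul_inv_cancel_left] at this
  -- the normaliser of `E` in `K` centralises `E`
  set N := normalizer (Q : Set X) with hN
  have hSN : (S : Subgroup X) ≤ N := fun s hs => by
    rw [hN, mem_normalizer_iff]
    refine fun q => ⟨h.conj_q hs, fun hq => ?_⟩
    have := h.conj_q (inv_mem hs) hq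
    rwa [show s⁻¹ * (s * q * s⁻¹) * s⁻¹⁻¹ = q by group] at this
  have hD := h.res hSN
  set S' : Sylow 2 ↥N := S.subtype hSN with hS'
  have hD' : SylData (S' : Subgroup ↥N) (resFun N φ) := by rw [hS', Sylow.coe_subtype]; exact hD
  have hcoe : ∀ k < 128, ((resFun N φ k : ↥N) : X) = φ k := fun k hk => resFun_coe (hSN (h.mem k hk))
  have hL : Loc (S' : Subgroup ↥N) (resFun N φ) := ⟨hD',
    fun g => Subtype.ext (by rw [Subgroup.coe_mul, Subgroup.coe_mul, hcoe 1 (by norm_num)]; exact hc _),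
    fun g q hq => by
      rw [h.mem_qSub_res hSN] at hq ⊢
      exact (mem_normalizer_iff.1 g.2 _).1 hq⟩
  have hnN : n ∈ N := by
    rw [hN, mem_normalizer_iff]
    intro q
    constructor
    · intro hq; rw [← hn]; exact ⟨q, hq, rfl⟩
    · intro hq
      rw [← hn] at hq
      obtain ⟨q', hq', e⟩ := hq
      exact (mul_left_cancel (mul_right_cancel e) : q' = q) ▸ hq'
  have hrange := hL.range_pr (n := ⟨n, hnN⟩) (by
    rintro (e | e) <;> refine hn2 ?_ <;> have e' := congrArg Subtype.val e <;>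
      simp only [Subgroup.coe_mul, Subgroup.coe_inv, hcoe 2 (by norm_num : (2 : ℕ) < 128),
        hcoe 3 (by norm_num : (3 : ℕ) < 128)] at e'
    · exact Or.inl e'
    · exact Or.inr e')
  set M := K.comap (π.comp N.subtype) with hM
  haveI : (normalClosure (E : Set (X ⧸ Z))).Normal := normalClosure_normal
  have hMpr : ∀ m ∈ M, hL.pr m = 1 := by
    haveI hMn : M.Normal := by rw [hM]; exact Subgroup.Normal.comap inferInstance _
    have himg : (M.map hL.pr).subgroupOf hL.pr.range = ⊥ := by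
      haveI : IsSimpleGroup ↥hL.pr.range := by rw [hrange]; exact alternatingGroup.isSimpleGroup_five
      haveI : ((M.map hL.pr).subgroupOf hL.pr.range).Normal := ⟨by
        rintro ⟨_, y, rfl⟩ hy ⟨_, g, rfl⟩
        obtain ⟨m, hm, e⟩ := hy
        refine ⟨g * m * g⁻¹, hMn.conj_mem m hm g, ?_⟩
        rw [_root_.map_mul, _root_.map_mul, _root_.map_inv, e]
        rfl⟩
      refine (IsSimpleGroup.eq_bot_or_eq_top_of_normal _ inferInstance).resolve_right fun htop => ?_
      rw [subgroupOf_eq_top] at htop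
      have h60 : Nat.card ↥(M.map hL.pr) = 60 := by
        rw [le_antisymm (map_le_range _ _) htop, hrange, card_alt_five]
      -- but the index of `Q` in `M` is odd
      set QN := qSub (resFun N φ) with hQN
      have hQker : QN ≤ hL.pr.ker := fun q hq => hL.pr_q hq
      have h1 : Nat.card ↥(M.map hL.pr) ∣ QN.relIndex M := by
        have h3 := Subgroup.relIndex_comap (⊥ : Subgroup (Equiv.Perm (Fin 5))) hL.pr M
        rw [MonoidHom.comap_bot, relIndex_bot_left] at h3
        rw [← h3]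
        exact relIndex_dvd_of_le_left M hQker
      have h2 : QN.relIndex M = E.relIndex (M.map (π.comp N.subtype)) := by
        have h3 := Subgroup.relIndex_comap E (π.comp N.subtype) M
        rw [← h3]
        congr 1
        ext q
        rw [hQN, h.mem_qSub_res hSN, mem_comap]
        exact ⟨fun hq => ⟨q, hq, rfl⟩, fun hq => hpiQ _ hq⟩
      have h4 : E ≤ M.map (π.comp N.subtype) := by
        rintro _ ⟨q, hq, rfl⟩
        exact ⟨⟨q, hSN (hQS hq)⟩, hEK ⟨q, hq, rfl⟩, rfl⟩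
      have h5 : E.relIndex (M.map (π.comp N.subtype)) ∣ E.relIndex K :=
        ⟨_, (relIndex_mul_relIndex _ _ _ h4 (map_comap_le _ _)).symm⟩
      have h6 : ¬ 2 ∣ E.relIndex K := by
        rw [Subgroup.relIndex, ← hT'E]
        exact T'.not_dvd_index
      refine h6 ((dvd_trans ?_ h1).trans (h2 ▸ h5))
      rw [h60]; norm_num
    intro m hm
    have hm' : (⟨hL.pr m, ⟨m, rfl⟩⟩ : ↥hL.pr.range) ∈ (M.map hL.pr).subgroupOf hL.pr.range :=
      ⟨m, hm, rfl⟩
    rw [himg, mem_bot] at hm'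
    exact congrArg Subtype.val hm'
  have hcentral : normalizer ((T' : Subgroup ↥K) : Set ↥K) ≤
      centralizer ((T' : Subgroup ↥K) : Set ↥K) := by
    intro x hx
    obtain ⟨c, hc'⟩ := hsurj (x : X ⧸ Z)
    have hcN : c ∈ N := by
      have hconj : ∀ (d : X) (y : ↥K), π d = y → y ∈ normalizer ((T' : Subgroup ↥K) : Set ↥K) →
          ∀ q ∈ Q, d * q * d⁻¹ ∈ Q := by
        intro d y hd hy q hq
        refine hpiQ _ ?_
        have hqT : (⟨π q, hEK ⟨q, hq, rfl⟩⟩ : ↥K) ∈ (T' : Subgroup ↥K) := by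
          rw [hT'E]; exact ⟨q, hq, rfl⟩
        have := (mem_normalizer_iff.1 hy _).1 hqT
        rw [hT'E] at this
        rw [_root_.map_mul, _root_.map_mul, _root_.map_inv, hd]
        exact this
      rw [hN, mem_normalizer_iff]
      refine fun q => ⟨hconj c x hc' hx q, fun hq => ?_⟩
      have := hconj c⁻¹ x⁻¹ (by rw [_root_.map_inv, hc']; rfl) (inv_mem hx) _ hq
      rwa [show c⁻¹ * (c * q * c⁻¹) * c⁻¹⁻¹ = q by group] at this
    have hcM : (⟨c, hcN⟩ : ↥N) ∈ M := by
      show π c ∈ K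
      rw [hc']; exact x.2
    have hpr := hMpr _ hcM
    intro y hy
    rw [SetLike.mem_coe, hT'E] at hy
    obtain ⟨q, hq, hqy⟩ := hy
    refine Subtype.ext ?_
    show (y : X ⧸ Z) * x = x * y
    rw [← hc', show (y : X ⧸ Z) = π q from hqy.symm]
    set P := centralizer ({π c} : Set (X ⧸ Z)) with hPdef
    refine mem_centralizer_singleton_iff.1 (?_ : π q ∈ P)
    refine h.qSub_le_of_pts (P := P.comap π) ?_ ?_ hq
    · rw [mem_comap, show π (φ 1) = 1 from MonoidHom.mem_ker.1 (hker.symm ▸ mem_zpowers _)]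
      exact one_mem _
    · intro i
      rw [mem_comap, hPdef, mem_centralizer_singleton_iff, ← _root_.map_mul, ← _root_.map_mul]
      have hix : ix i < 128 := lt_trans (ix_facts i).1 (by norm_num)
      have hg := hL.pr_spec ⟨c, hcN⟩ i
      rw [hpr, Equiv.Perm.one_apply] at hg
      have hv : ((pts (resFun N φ) i : ↥N) : X) = pts φ i := hcoe _ hix
      rw [QuotientGroup.mk'_eq_mk']
      rcases hg with e | e <;> have e' := congrArg Subtype.val e <;>
        simp only [Subgroup.coe_mul, Subgroup.coe_inv, hv, hcoe 1 (by norm_num : (1 : ℕ) < 128)] at e'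
      · refine ⟨1, one_mem _, ?_⟩
        rw [mul_one, mul_inv_eq_iff_eq_mul.1 e']
      · refine ⟨φ 1, mem_zpowers _, ?_⟩
        rw [mul_inv_eq_iff_eq_mul.1 e', mul_assoc, hc, ← mul_assoc]
  have hB := MonoidHom.ker_transferSylow_isComplement' T' hcentral
  have hB1 : (MonoidHom.transferSylow T' hcentral).ker = ⊥ :=
    le_bot_iff.1 (hOK ▸ Cores.le_pPrimeCore_of_not_dvd
      (MonoidHom.not_dvd_card_ker_transferSylow T' hcentral))
  rw [hB1, isComplement'_bot_left, hT'E, subgroupOf_eq_top] at hB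
  have hKE : K = E := le_antisymm hB hEK
  intro g q hq
  refine hpiQ _ ?_
  rw [← hKE, _root_.map_mul, _root_.map_mul, _root_.map_inv]
  exact Subgroup.Normal.conj_mem normalClosure_normal _ (hEK ⟨q, hq, rfl⟩) _

/-- The centraliser of `z` modulo its core. -/
theorem SylData.nonempty_centralizer {G : Type u} [Group G] [Finite G] {S : Sylow 2 G} {φ : ℕ → G}
    (h : SylData (S : Subgroup G) φ) (hG : ∀ N : Subgroup G, N.index ≠ 2) :
    Nonempty (↥(centralizer ({φ 1} : Set G)) ⧸ Cfsg.oddCore ↥(centralizer ({φ 1} : Set G)) ≃*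
      HJUniq.PC) := by
  haveI : Fact (Nat.Prime 2) := ⟨Nat.prime_two⟩
  obtain ⟨n, hnz, hnQ, hn2⟩ := h.exists_moving hG
  set C := centralizer ({φ 1} : Set G) with hC
  have hSC : (S : Subgroup G) ≤ C := fun s hs => mem_centralizer_singleton_iff.2 (h.z_comm hs)
  have hD := h.res hSC
  set φC := resFun C φ with hφC
  have hcoe : ∀ k < 128, ((φC k : ↥C) : G) = φ k := fun k hk => resFun_coe (hSC (h.mem k hk))
  set O := Cfsg.oddCore ↥C with hOdef
  haveI : O.Normal := by rw [hOdef]; infer_instance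
  set f := QuotientGroup.mk' O with hf
  have hinj : ∀ s ∈ (S : Subgroup G).subgroupOf C, f s = 1 → s = 1 := by
    intro s hs e
    have hsO : s ∈ O := (QuotientGroup.eq_one_iff s).1 e
    obtain ⟨k, hk⟩ := IsPGroup.iff_orderOf.1 (S.2.comap_subtype (K := C)) ⟨s, hs⟩
    rw [← Subgroup.orderOf_coe] at hk
    refine orderOf_eq_one_iff.1 (Nat.eq_one_of_dvd_coprimes ?_ (dvd_of_eq hk)
      (Subgroup.orderOf_dvd_natCard O hsO))
    exact ((Cores.pPrimeCore_coprime (G := ↥C) 2).pow_right k).symm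
  set φb := fun k => f (φC k) with hφb
  set S' : Sylow 2 (↥C ⧸ O) := (S.subtype hSC).mapSurjective (QuotientGroup.mk'_surjective O) with hS'
  have hDb : SylData (S' : Subgroup (↥C ⧸ O)) φb := by
    have e : (S' : Subgroup (↥C ⧸ O)) = ((S : Subgroup G).subgroupOf C).map f := by
      rw [hS', Sylow.coe_mapSurjective, Sylow.coe_subtype]
    rw [e]
    exact hD.map f hinj
  have hcb : ∀ g, g * φb 1 = φb 1 * g := by
    intro g
    obtain ⟨c, rfl⟩ := QuotientGroup.mk'_surjective O g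
    show f c * f (φC 1) = f (φC 1) * f c
    rw [← _root_.map_mul, ← _root_.map_mul]
    refine congrArg f (Subtype.ext ?_)
    rw [Subgroup.coe_mul, Subgroup.coe_mul, hcoe 1 (by norm_num)]
    exact mem_centralizer_singleton_iff.1 c.2
  have hnC : n ∈ C := mem_centralizer_singleton_iff.2 hnz
  set nb := f ⟨n, hnC⟩ with hnb
  have hqmem : ∀ q (hq : q ∈ qSub φ), f ⟨q, hSC (h.qSub_le hq)⟩ ∈ qSub φb := fun q hq => by
    rw [hφb, map_qSub]
    exact ⟨_, (h.mem_qSub_res hSC).2 hq, rfl⟩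
  have hnb1 : (qSub φb).map (MulAut.conj nb).toMonoidHom = qSub φb := by
    refine Subgroup.eq_of_le_of_card_ge ?_ (le_of_eq (Nat.card_congr
      (equivMapOfInjective _ _ (MulAut.conj nb).injective).toEquiv))
    rintro _ ⟨_, hy, rfl⟩
    rw [SetLike.mem_coe, hφb, map_qSub] at hy
    obtain ⟨q, hq, rfl⟩ := hy
    have hnq : n * (q : G) * n⁻¹ ∈ qSub φ := by
      rw [← hnQ]; exact ⟨q, (h.mem_qSub_res hSC).1 hq, rfl⟩
    have := hqmem _ hnq
    show f ⟨n, hnC⟩ * f q * (f ⟨n, hnC⟩)⁻¹ ∈ _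
    rw [← _root_.map_mul, ← _root_.map_inv, ← _root_.map_mul]
    exact this
  have hnb2 : ¬ (nb * φb 2 * nb⁻¹ = φb 2 ∨ nb * φb 2 * nb⁻¹ = φb 3) := by
    have h2Q : φ 2 ∈ qSub φ := h.mem_qSub_iff.2 ⟨2, by norm_num, rfl⟩
    have hnq : n * φ 2 * n⁻¹ ∈ qSub φ := by rw [← hnQ]; exact ⟨_, h2Q, rfl⟩
    have key : ∀ k < 128, nb * φb 2 * nb⁻¹ = φb k → n * φ 2 * n⁻¹ = φ k := by
      intro k hk e
      rw [hnb, hφb] at e
      simp only [← _root_.map_mul, ← _root_.map_inv] at e
      have hs : (⟨n, hnC⟩ : ↥C) * φC 2 * ⟨n, hnC⟩⁻¹ * (φC k)⁻¹ ∈ (S : Subgroup G).subgroupOf C := by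
        refine mul_mem ?_ (inv_mem (hD.mem k hk))
        rw [mem_subgroupOf, Subgroup.coe_mul, Subgroup.coe_mul, hcoe 2 (by norm_num)]
        exact h.qSub_le hnq
      have := congrArg Subtype.val (mul_inv_eq_one.1 (hinj _ hs
        (by rw [_root_.map_mul, _root_.map_inv, mul_inv_eq_one]; exact e)))
      rw [hcoe k hk, Subgroup.coe_mul, Subgroup.coe_mul, hcoe 2 (by norm_num)] at this
      exact this
    rintro (e | e)
    · exact hn2 (Or.inl (key 2 (by norm_num) e))
    · exact hn2 (Or.inr (key 3 (by norm_num) e))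
  have hOb : Cfsg.oddCore (↥C ⧸ O) = ⊥ := Cores.pPrimeCore_quotient_pPrimeCore 2
  have hL : Loc (S' : Subgroup (↥C ⧸ O)) φb := ⟨hDb, hcb, hDb.normal_qSub hcb hOb hnb1 hnb2⟩
  exact hL.nonempty_PC hOb hnb2

end Cfsg.Agent.Lib.SylJ2Type51
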