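import Cfsg.Agent.Lib.SylJ2Type51.Data

/-!
# The five points of `Q` (S3199)

A group fixing `z` and normalising `Q` permutes the five pairs `{vᵢ, vᵢ z}`; if some element moves
`{v₀, v₀ z}` and `S` is a Sylow 2-subgroup, the permutations are exactly the even ones.
-/

set_option autoImplicit false
set_option linter.unusedSectionVars false
set_option linter.style.haveILetI false
set_option maxRecDepth 20000

namespace Cfsg.Agent.Lib.SylJ2Type51

open Subgroup Cfsg.Agent.Lib.CosetEnum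
open Cfsg.Agent.Lib.HJUniq (sA sT)

/-- The permutation of `t'`. -/
abbrev sU : Equiv.Perm (Fin 5) := Equiv.swap 1 3 * Equiv.swap 2 4

/-- The indices of the five points. -/
def ix : Fin 5 → ℕ := ![2, 4, 8, 16, 30]

theorem ix_facts : ∀ i, ix i < 32 ∧ inZ (ix i) = false ∧ mul (ix i) 1 = ix i + 1 ∧
    mul (ix i) (ix i) = 0 := by
  decide +kernel

theorem ix_inj : ∀ i j, (ix i = ix j ∨ ix i = ix j + 1 ∨ ix i + 1 = ix j) → i = j := by
  decide +kernel

theorem ix_com : ∀ i j, i ≠ j → com (ix i) (ix j) = 1 := by decide +kernel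

theorem ix_tu : ∀ i, (cj 32 (ix i) = ix (sT i) ∨ cj 32 (ix i) = ix (sT i) + 1) ∧
    (cj 64 (ix i) = ix (sU i) ∨ cj 64 (ix i) = ix (sU i) + 1) := by decide +kernel

theorem ix_prod : mul (mul (mul (mul 2 4) 8) 16) 30 = 0 := by decide +kernel

theorem decomp : allBelow 32 (fun x => Nat.beq
    (mul (mul (mul (mul (x % 2) (2 * (x / 2 % 2))) (4 * (x / 4 % 2))) (8 * (x / 8 % 2)))
      (16 * (x / 16 % 2))) x) = true := by
  decide +kernel

/-- A subgroup of a simple group of order `60` with index at most `4` is everything. -/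
theorem eq_top_of_small_index {A : Type*} [Group A] [IsSimpleGroup A] [Finite A] (hA : 24 < Nat.card A)
    (H : Subgroup A) (hi : H.index ≤ 4) : H = ⊤ := by
  rcases IsSimpleGroup.eq_bot_or_eq_top_of_normal H.normalCore inferInstance with e | e
  · exfalso
    rw [normalCore_eq_ker] at e
    have h1 := Nat.card_le_card_of_injective _ ((MonoidHom.ker_eq_bot_iff _).1 e)
    rw [Nat.card_perm, ← Subgroup.index] at h1
    have := h1.trans (Nat.factorial_le hi)
    simp [Nat.factorial] at this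
    omega
  · exact top_le_iff.1 (e ▸ normalCore_le H)

theorem card_alt_five : Nat.card ↥(alternatingGroup (Fin 5)) = 60 := by
  rw [Nat.card_eq_fintype_card]; decide +kernel

/-- A group of permutations of five points containing `t, t'` and moving `0` has all even ones. -/
theorem alt_le_of_moves (H : Subgroup (Equiv.Perm (Fin 5))) (hT : sT ∈ H) (hU : sU ∈ H)
    {σ : Equiv.Perm (Fin 5)} (hσ : σ ∈ H) (h0 : σ 0 ≠ 0) : alternatingGroup (Fin 5) ≤ H := by
  classical
  have htr : ∀ k j : Fin 5, k ≠ 0 → j ≠ 0 →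
      k = j ∨ sT k = j ∨ sU k = j ∨ (sT * sU) k = j := by decide +kernel
  have horb : MulAction.orbit ↥H (0 : Fin 5) = Set.univ := by
    refine Set.eq_univ_of_forall fun j => ?_
    by_cases hj : j = 0
    · exact hj ▸ MulAction.mem_orbit_self _
    rcases htr _ j h0 hj with e | e | e | e
    · exact ⟨⟨σ, hσ⟩, e⟩
    · exact ⟨⟨sT * σ, mul_mem hT hσ⟩, e⟩
    · exact ⟨⟨sU * σ, mul_mem hU hσ⟩, e⟩
    · exact ⟨⟨sT * sU * σ, mul_mem (mul_mem hT hU) hσ⟩, e⟩
  have h5 : 5 ∣ Nat.card ↥H := by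
    refine ⟨Nat.card (MulAction.stabilizer ↥H (0 : Fin 5)), ?_⟩
    rw [← Nat.card_congr (MulAction.orbitProdStabilizerEquivGroup ↥H (0 : Fin 5)), Nat.card_prod]
    congr 1
    rw [Nat.card_coe_set_eq, horb, Set.ncard_univ, Nat.card_fin]
  haveI : Fact (Nat.Prime 5) := ⟨Nat.prime_five⟩
  obtain ⟨⟨c, hcH⟩, hc⟩ := exists_prime_orderOf_dvd_card' (G := ↥H) 5 h5
  rw [Subgroup.orderOf_mk] at hc
  have hc5 : c ^ 5 = 1 := by have := pow_orderOf_eq_one c; rwa [hc] at this
  have hcA : c ∈ alternatingGroup (Fin 5) := by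
    rw [Equiv.Perm.mem_alternatingGroup]
    have e := congrArg Equiv.Perm.sign hc5
    rw [map_pow, map_one] at e
    rcases Int.units_eq_one_or (Equiv.Perm.sign c) with e1 | e1
    · exact e1
    · rw [e1] at e; exact absurd e (by decide)
  let V : Subgroup (Equiv.Perm (Fin 5)) :=
    { carrier := {1, sT, sU, sT * sU}
      one_mem' := by simp
      mul_mem' := by
        have key : ∀ a ∈ [1, sT, sU, sT * sU], ∀ b ∈ [1, sT, sU, sT * sU],
            a * b ∈ [1, sT, sU, sT * sU] := by decide +kernel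
        intro a b ha hb
        have := key a (by simpa using ha) b (by simpa using hb)
        simpa using this
      inv_mem' := by
        have key : ∀ a ∈ [1, sT, sU, sT * sU], a⁻¹ ∈ [1, sT, sU, sT * sU] := by decide +kernel
        intro a ha
        have := key a (by simpa using ha)
        simpa using this }
  have hV4 : Nat.card ↥V = 4 := by
    show Nat.card ↥({1, sT, sU, sT * sU} : Set (Equiv.Perm (Fin 5))) = 4
    rw [Nat.card_coe_set_eq, Set.ncard_eq_toFinset_card']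
    simp only [Set.toFinset_insert, Set.toFinset_singleton]
    decide +kernel
  set A := alternatingGroup (Fin 5) with hAdef
  have hsTA : sT ∈ A := Equiv.Perm.mem_alternatingGroup.2 (by decide +kernel)
  have hsUA : sU ∈ A := Equiv.Perm.mem_alternatingGroup.2 (by decide +kernel)
  have hVle : V ≤ H ⊓ A := by
    intro x hx
    have hx' : x = 1 ∨ x = sT ∨ x = sU ∨ x = sT * sU := hx
    rcases hx' with rfl | rfl | rfl | rfl
    exacts [one_mem _, ⟨hT, hsTA⟩, ⟨hU, hsUA⟩, ⟨mul_mem hT hU, mul_mem hsTA hsUA⟩]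
  have h20 : 20 ∣ Nat.card ↥(H ⊓ A) := by
    refine (by norm_num : (20 : ℕ) = 4 * 5) ▸ Nat.Coprime.mul_dvd_of_dvd_of_dvd (by norm_num) ?_ ?_
    · exact hV4 ▸ card_dvd_of_le hVle
    · have h1 : orderOf c ∣ Nat.card ↥(H ⊓ A) :=
        Subgroup.orderOf_dvd_natCard (H ⊓ A) (Subgroup.mem_inf.2 ⟨hcH, hcA⟩)
      rwa [hc] at h1
  haveI : IsSimpleGroup ↥A := alternatingGroup.isSimpleGroup_five
  have hi := ((H ⊓ A).subgroupOf A).card_mul_index
  rw [Nat.card_congr (subgroupOfEquivOfLe inf_le_right).toEquiv, hAdef, card_alt_five, ← hAdef] at hi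
  have htop : (H ⊓ A).subgroupOf A = ⊤ := by
    refine eq_top_of_small_index (by rw [hAdef, card_alt_five]; norm_num) _ ?_
    obtain ⟨m, hm⟩ := h20
    rw [hm] at hi
    have : 0 < m := by
      rcases Nat.eq_zero_or_pos m with rfl | h
      · simp at hi
      · exact h
    nlinarith
  exact (subgroupOf_eq_top.1 htop).trans inf_le_left

/-- `z` is central, `Q` normal and `S` parametrised by the model. -/
structure Loc {K : Type*} [Group K] (S : Subgroup K) (φ : ℕ → K) : Prop where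
  data : SylData S φ
  central : ∀ g, g * φ 1 = φ 1 * g
  normal : ∀ g, ∀ q ∈ qSub φ, g * q * g⁻¹ ∈ qSub φ

/-- The pair of the `i`th point goes to the `j`th. -/
def Goes {K : Type*} [Group K] (φ : ℕ → K) (g : K) (i j : Fin 5) : Prop :=
  g * pts φ i * g⁻¹ = pts φ j ∨ g * pts φ i * g⁻¹ = pts φ j * φ 1

namespace SylData

variable {K : Type*} [Group K] {S : Subgroup K} {φ : ℕ → K} (h : SylData S φ)
include h

theorem pts_ix (i : Fin 5) : pts φ i = φ (ix i) := rfl

theorem pts_z (i : Fin 5) : pts φ i * φ 1 = φ (ix i + 1) := by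
  rw [h.pts_ix, ← h.map_mul _ (lt_trans (ix_facts i).1 (by norm_num)) 1 (by norm_num)]
  exact congrArg φ (ix_facts i).2.2.1

theorem pts_unique {x : K} {i j : Fin 5} (hi : x = pts φ i ∨ x = pts φ i * φ 1)
    (hj : x = pts φ j ∨ x = pts φ j * φ 1) : i = j := by
  have li := (ix_facts i).1
  have lj := (ix_facts j).1
  rw [h.pts_z, h.pts_ix] at hi hj
  refine ix_inj i j ?_
  rcases hi with e | e <;> rcases hj with e' | e' <;>
    have e2 := h.inj _ (by omega) _ (by omega) (e.symm.trans e')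
  · exact Or.inl e2
  · exact Or.inr (Or.inl e2)
  · exact Or.inr (Or.inr e2)
  · exact Or.inl (by omega)

theorem pts_sq (i : Fin 5) : pts φ i * pts φ i = 1 := by
  rw [h.pts_ix, ← h.map_mul _ (lt_trans (ix_facts i).1 (by norm_num)) _ (lt_trans (ix_facts i).1 (by norm_num)),
    ← h.map_zero]
  exact congrArg φ (ix_facts i).2.2.2

theorem pts_not_inZ (i : Fin 5) : ¬ InZ φ (pts φ i) := by
  rw [h.pts_ix, h.inZ_iff (lt_trans (ix_facts i).1 (by norm_num))]
  exact fun e => Bool.false_ne_true ((ix_facts i).2.1.symm.trans e)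

/-- Commutators of distinct points. -/
theorem pts_com {i j : Fin 5} (hij : i ≠ j) :
    pts φ i * pts φ j * (pts φ i)⁻¹ * (pts φ j)⁻¹ = φ 1 := by
  rw [h.pts_ix, h.pts_ix, ← h.map_com (lt_trans (ix_facts i).1 (by norm_num)) (lt_trans (ix_facts j).1 (by norm_num))]
  exact congrArg φ (ix_com i j hij)

theorem pts_prod : pts φ 0 * pts φ 1 * pts φ 2 * pts φ 3 * pts φ 4 = 1 := by
  show φ 2 * φ 4 * φ 8 * φ 16 * φ 30 = 1
  have l := fun (a b : ℕ) (ha : a < 128) (hb : b < 128) => mul_lt ha hb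
  rw [← h.map_mul 2 (by norm_num) 4 (by norm_num), ← h.map_mul _ (l 2 4 (by norm_num) (by norm_num)) 8 (by norm_num),
    ← h.map_mul _ (l _ 8 (l 2 4 (by norm_num) (by norm_num)) (by norm_num)) 16 (by norm_num),
    ← h.map_mul _ (l _ 16 (l _ 8 (l 2 4 (by norm_num) (by norm_num)) (by norm_num)) (by norm_num)) 30
      (by norm_num), ix_prod, h.map_zero]

/-- `Q` is generated by `z` and the first four points. -/
theorem qSub_le_of_pts {P : Subgroup K} (hz : φ 1 ∈ P) (hp : ∀ i, pts φ i ∈ P) : qSub φ ≤ P := by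
  intro q hq
  obtain ⟨x, hx, rfl⟩ := h.mem_qSub_iff.1 hq
  have e := Nat.eq_of_beq_eq_true (below_iff.1 decomp x hx)
  have g : ∀ k, k < 128 → φ k ∈ P → ∀ b, b < 2 → k * b < 128 ∧ φ (k * b) ∈ P := by
    intro k hk hkP b hb
    interval_cases b
    · simp [h.map_zero, one_mem]
    · simp [hk, hkP]
  obtain ⟨l0, m0⟩ := g 1 (by norm_num) hz (x % 2) (Nat.mod_lt _ (by norm_num))
  obtain ⟨l1, m1⟩ := g 2 (by norm_num) (hp 0) (x / 2 % 2) (Nat.mod_lt _ (by norm_num))
  obtain ⟨l2, m2⟩ := g 4 (by norm_num) (hp 1) (x / 4 % 2) (Nat.mod_lt _ (by norm_num))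
  obtain ⟨l3, m3⟩ := g 8 (by norm_num) (hp 2) (x / 8 % 2) (Nat.mod_lt _ (by norm_num))
  obtain ⟨l4, m4⟩ := g 16 (by norm_num) (hp 3) (x / 16 % 2) (Nat.mod_lt _ (by norm_num))
  rw [one_mul] at l0 m0
  rw [← e, h.map_mul _ (mul_lt (mul_lt (mul_lt l0 l1) l2) l3) _ l4, h.map_mul _ (mul_lt (mul_lt l0 l1) l2) _ l3,
    h.map_mul _ (mul_lt l0 l1) _ l2, h.map_mul _ l0 _ l1]
  exact mul_mem (mul_mem (mul_mem (mul_mem m0 m1) m2) m3) m4

end SylData

namespace Loc

variable {K : Type*} [Group K] {S : Subgroup K} {φ : ℕ → K} (hL : Loc S φ)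
include hL

theorem conj_z (g : K) : g * φ 1 * g⁻¹ = φ 1 := by rw [hL.central, mul_inv_cancel_right]

theorem exists_goes (g : K) (i : Fin 5) : ∃ j, Goes φ g i j := by
  have h2 : g * pts φ i * g⁻¹ * (g * pts φ i * g⁻¹) = 1 := by
    rw [show g * pts φ i * g⁻¹ * (g * pts φ i * g⁻¹) = g * (pts φ i * pts φ i) * g⁻¹ by group,
      hL.data.pts_sq]
    group
  refine (hL.data.singular (hL.normal g _ (hL.data.pts_mem i)) h2).resolve_left fun e => ?_
  refine hL.data.pts_not_inZ i ?_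
  rcases e with e | e
  · exact Or.inl (conj_eq_one_iff.1 e)
  · right
    calc pts φ i = g⁻¹ * (g * pts φ i * g⁻¹) * g := by group
      _ = g⁻¹ * φ 1 * g⁻¹⁻¹ := by rw [e, inv_inv]
      _ = φ 1 := hL.conj_z g⁻¹

/-- The image of the index `i`. -/
noncomputable def img (g : K) (i : Fin 5) : Fin 5 := (hL.exists_goes g i).choose

theorem img_spec (g : K) (i : Fin 5) : Goes φ g i (hL.img g i) := (hL.exists_goes g i).choose_spec

theorem img_eq {g : K} {i j : Fin 5} (hg : Goes φ g i j) : hL.img g i = j :=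
  hL.data.pts_unique (hL.img_spec g i) hg

theorem goes_mul {g k : K} {i j l : Fin 5} (h1 : Goes φ k i j) (h2 : Goes φ g j l) :
    Goes φ (g * k) i l := by
  have e0 : g * k * pts φ i * (g * k)⁻¹ = g * (k * pts φ i * k⁻¹) * g⁻¹ := by group
  rcases h1 with e | e
  · rcases h2 with e' | e'
    · left; rw [e0, e, e']
    · right; rw [e0, e, e']
  · have e3 : g * (pts φ j * φ 1) * g⁻¹ = g * pts φ j * g⁻¹ * φ 1 := by
      rw [show g * (pts φ j * φ 1) * g⁻¹ = g * pts φ j * g⁻¹ * (g * φ 1 * g⁻¹) by group, hL.conj_z]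
    rcases h2 with e' | e'
    · right; rw [e0, e, e3, e']
    · left; rw [e0, e, e3, e', mul_assoc, hL.data.z_sq, mul_one]

theorem img_one (i : Fin 5) : hL.img 1 i = i := hL.img_eq (Or.inl (by group))

theorem img_mul (g k : K) (i : Fin 5) : hL.img (g * k) i = hL.img g (hL.img k i) :=
  hL.img_eq (hL.goes_mul (hL.img_spec k i) (hL.img_spec g _))

/-- The permutation representation on the five pairs. -/
noncomputable def pr : K →* Equiv.Perm (Fin 5) :=
  MonoidHom.mk' (fun g => ⟨hL.img g, hL.img g⁻¹,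
    fun i => by rw [← hL.img_mul, inv_mul_cancel, hL.img_one],
    fun i => by rw [← hL.img_mul, mul_inv_cancel, hL.img_one]⟩)
    fun g k => Equiv.ext fun i => hL.img_mul g k i

theorem pr_spec (g : K) (i : Fin 5) : Goes φ g i (hL.pr g i) := hL.img_spec g i

theorem pr_eq {g : K} {i j : Fin 5} (hg : Goes φ g i j) : hL.pr g i = j := hL.img_eq hg

theorem pr_q {q : K} (hq : q ∈ qSub φ) : hL.pr q = 1 := by
  refine Equiv.ext fun i => hL.pr_eq ?_
  rcases hL.data.q_comm hq (hL.data.pts_mem i) with e | e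
  · left; exact mul_inv_eq_one.1 e
  · right
    rw [mul_inv_eq_iff_eq_mul] at e
    rw [e, Equiv.Perm.one_apply, hL.central]

theorem pr_tu : hL.pr (φ 32) = sT ∧ hL.pr (φ 64) = sU := by
  have key : ∀ (k : ℕ) (σ : Equiv.Perm (Fin 5)), k < 128 →
      (∀ i, cj k (ix i) = ix (σ i) ∨ cj k (ix i) = ix (σ i) + 1) → hL.pr (φ k) = σ := by
    intro k σ hk hi
    refine Equiv.ext fun i => hL.pr_eq ?_
    have li : ix i < 128 := lt_trans (ix_facts i).1 (by norm_num)
    rcases hi i with e | e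
    · left; show φ k * φ (ix i) * (φ k)⁻¹ = φ (ix (σ i)); rw [← hL.data.map_cj hk li, e]
    · right; show φ k * φ (ix i) * (φ k)⁻¹ = _; rw [hL.data.pts_z, ← hL.data.map_cj hk li, e]
  exact ⟨key 32 sT (by norm_num) fun i => (ix_tu i).1, key 64 sU (by norm_num) fun i => (ix_tu i).2⟩

theorem pr_two {n : K} (hn : ¬ (n * φ 2 * n⁻¹ = φ 2 ∨ n * φ 2 * n⁻¹ = φ 3)) : hL.pr n 0 ≠ 0 := by
  intro e
  refine hn ?_
  have h3 : φ 3 = pts φ 0 * φ 1 := (hL.data.pts_z 0).symm
  have := hL.pr_spec n 0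
  rw [e] at this
  rw [h3]
  exact this

end Loc

/-- With `S` Sylow and a pair moved, the permutations are the even ones. -/
theorem Loc.range_pr {K : Type*} [Group K] [Finite K] {S : Sylow 2 K} {φ : ℕ → K}
    (hL : Loc (S : Subgroup K) φ) {n : K} (hn : ¬ (n * φ 2 * n⁻¹ = φ 2 ∨ n * φ 2 * n⁻¹ = φ 3)) :
    hL.pr.range = alternatingGroup (Fin 5) := by
  haveI : Fact (Nat.Prime 2) := ⟨Nat.prime_two⟩
  have hA := alt_le_of_moves hL.pr.range ⟨_, hL.pr_tu.1⟩ ⟨_, hL.pr_tu.2⟩ ⟨n, rfl⟩ (hL.pr_two hn)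
  refine (Subgroup.eq_of_le_of_card_ge hA ?_).symm
  rw [card_alt_five]
  have h60 : 60 ∣ Nat.card ↥hL.pr.range := card_alt_five ▸ card_dvd_of_le hA
  have h120 : Nat.card ↥hL.pr.range ∣ 120 := by
    have := Subgroup.card_subgroup_dvd_card hL.pr.range
    rwa [Nat.card_perm, Nat.card_fin, show Nat.factorial 5 = 120 by rfl] at this
  obtain ⟨m, hm⟩ := h60
  rw [hm] at h120 ⊢
  have hm2 : m ∣ 2 := Nat.dvd_of_mul_dvd_mul_left (by norm_num : 0 < 60) h120
  rcases (Nat.dvd_prime Nat.prime_two).1 hm2 with rfl | rfl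
  · norm_num
  exfalso
  have hQ : 32 ∣ Nat.card ↥hL.pr.ker := hL.data.card_qSub ▸ card_dvd_of_le fun q hq => hL.pr_q hq
  have e := hL.pr.ker.card_mul_index
  rw [Subgroup.index_ker, hm] at e
  have hS := (S : Subgroup K).card_mul_index
  rw [hL.data.card_S] at hS
  have : 256 ∣ 128 * (S : Subgroup K).index := by
    rw [hS, ← e]
    exact (show 256 ∣ 32 * (60 * 2) by norm_num).trans (Nat.mul_dvd_mul_right hQ _)
  exact S.not_dvd_index (by omega)

end Cfsg.Agent.Lib.SylJ2Type51
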