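import Cfsg.Agent.Lib.HJUniq.Third

/-!
# The Sylow 2-subgroup of the Hall-Janko group on 128 indices (S3199)

An index `c + 2 e₀ + 4 e₁ + 8 e₂ + 16 e₃ + 32 s₁ + 64 s₂` stands for
`z^c v₀^e₀ v₁^e₁ v₂^e₂ v₃^e₃ t^s₁ t'^s₂` in the centraliser `PC` of order `1920`; `t`, `t'` fix `v₀`
and generate a four-group regular on `v₁, …, v₄`.
-/

set_option autoImplicit false
set_option maxRecDepth 20000

namespace Cfsg.Agent.Lib.SylJ2Type51

/-- Packed right multiplication by the seven generators. -/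
def rmTab : List ℕ := [
  0xfdffe7df5efc79eddfa75e5cf871ddbf66dd5af469cd9f265c58f061bd7ee5db56ec59ad5ea55a54e8519d3e64d952e4498d1e245850e0417cfde3d74edc396cdda3564cd8315cbd62d54ad4294c9d225448d0213c7ce1d346cc192c5ca15244c8111c3c60d142c4090c1c205040c001,
  0xf9f7f7ff3e3dfaebd3bf6e1c7973dbb37eed1a756bc997367c3831e2b976f5fb362ddaab52bd6a1469539b327ce912654b891634783021c278f5f3f72e1dba6ad1bb660c59335ab17ae50a552b489532742811a23874f1f3260d9a2a50b9620449131a3078e102450b08143070200182,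
  0xc3831e2c997367d3a35ead9b776fe1c7973ebd3bf6f1e7d7bfbf3ffe9f3a6cc972a4c88f1a2c4870a0c0bf7aedcb76acd8af5aad4a74a8d06cdda3564cd8317cfde3d74edc394e992a446890a05eb96ac56a94a83668c983e78e9c244c8112c5ca15142c4091c3c60d06080800e18284,
  0xdfbb6ecd7ab4e8cf9b2e4c78b0e0fffbefcf7ebcf8efdbaf4e7cb8f083021c2891634793225ca993674fa146953ab52bd6b166d5bbb72fde76e9cb87ef9ebc64cd8316cdda3554ad4295cbd62d46890a04e992a42c5ca15244c8113c7ce1d346cc190e1828406080801e3868c1628488,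
  0xeddfa75e5cf871fdffe7df5efc79cf9b2e4c78b0e0dfbb6ecd7ab4e8b76acd8bf7aedca54e851ad5ea55952e4499d3e64d870a0c08f1a2c442811a2489532752a15aa58b572f60c59336ad1bb670e5d3b7af1fbe1e3868c16284880e1828406080803e78e9c3668c982e58a942648890,
  0xbf7aedcb76acd8af5aad4a74a8d09f3a6cc972a4c88f1a2c4870a0c0fffbefcf7ebcf8efdbaf4e7cb8f0dfbb6ecd7ab4e8cf9b2e4c78b0e03e78e9c3668c982e58a9426488901e3868c16284880e1828406080807ef9ebc76e9cb86ed9ab466c98b05eb96ac56a94a84e992a446890a0,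
  0x7ef9ebc76e9cb86ed9ab466c98b05eb96ac56a94a84e992a446890a03e78e9c3668c982e58a9426488901e3868c16284880e182840608080fffbefcf7ebcf8efdbaf4e7cb8f0dfbb6ecd7ab4e8cf9b2e4c78b0e0bf7aedcb76acd8af5aad4a74a8d09f3a6cc972a4c88f1a2c4870a0c0
]
/-- Packed inverses. -/
def invTab : ℕ :=
  0xcb93367f7ebcf8ebd3bf6d5af4e8d9b776fe5cf8f0f9f7ffec78b0e0932254bb166d5baf5aad48d1e2c49b327ceb976fdea54e8d0870a0c062c193372e1dba68d5b3778f5fbe5eb96ac4c9d2a454ad4a846890a03e78e1d346cc192c5ca15244c8901c3c60d142c4880c1c2840608080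

/-- Right multiplication by a generator. -/
def rm (g x : ℕ) : ℕ := (rmTab.getD g 0 >>> (7 * x)) % 128

/-- The inverse. -/
def inv (x : ℕ) : ℕ := (invTab >>> (7 * x)) % 128

/-- Multiply `x` by the generator `g` if the bit `g` of `y` is set. -/
def step (y g x : ℕ) : ℕ := if Nat.beq ((y >>> g) % 2) 1 then rm g x else x

/-- The product. -/
def mul (x y : ℕ) : ℕ :=
  step y 6 (step y 5 (step y 4 (step y 3 (step y 2 (step y 1 (step y 0 x))))))

/-- The commutator `x y x⁻¹ y⁻¹`. -/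
def com (x y : ℕ) : ℕ := mul (mul (mul x y) (inv x)) (inv y)

/-- In `Q`. -/
def inQ (x : ℕ) : Bool := Nat.blt x 32

/-- In `W = ⟨z, v₀⟩`. -/
def inW (x : ℕ) : Bool := Nat.blt x 4

/-- In `Z = ⟨z⟩`. -/
def inZ (x : ℕ) : Bool := Nat.blt x 2

/-- In `R = C(v₀)`. -/
def inR (x : ℕ) : Bool := Nat.beq ((x >>> 2) % 2 + (x >>> 3) % 2 + (x >>> 4) % 2) 0 ||
  Nat.beq ((x >>> 2) % 2 + (x >>> 3) % 2 + (x >>> 4) % 2) 2

/-- The words of the generators. -/
def genW : List (List ℕ) :=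
  [HJUniq.zW, HJUniq.qw 0, HJUniq.qw 1, HJUniq.qw 2, HJUniq.qw 3, [2], [0, 0, 2, 0, 0, 0, 2, 0, 0]]

/-- The word of an index. -/
def word (x : ℕ) : List ℕ :=
  ((List.range 7).map fun g => if Nat.beq ((x >>> g) % 2) 1 then genW.getD g [] else []).flatten

end Cfsg.Agent.Lib.SylJ2Type51
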