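import Cfsg.Agent.Lib.SylJ2Type51.Data

/-!
# Transport of the parametrisation (S3199)
-/

set_option autoImplicit false
set_option linter.unusedSectionVars false
set_option linter.style.haveILetI false

namespace Cfsg.Agent.Lib.SylJ2Type51

open Subgroup Cfsg.Agent.Lib.CosetEnum

variable {G G' : Type*} [Group G] [Group G'] {S : Subgroup G} {φ : ℕ → G}

theorem SylData.map (h : SylData S φ) (f : G →* G') (hf : ∀ s ∈ S, f s = 1 → s = 1) :
    SylData (S.map f) (fun x => f (φ x)) where
  mem x hx := ⟨φ x, h.mem x hx, rfl⟩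
  surj := by
    rintro _ ⟨g, hg, rfl⟩
    obtain ⟨x, hx, rfl⟩ := h.surj g hg
    exact ⟨x, hx, rfl⟩
  inj x hx y hy e := by
    refine h.inj x hx y hy (mul_inv_eq_one.1 (hf _ (mul_mem (h.mem x hx) (inv_mem (h.mem y hy))) ?_))
    rw [_root_.map_mul, _root_.map_inv, mul_inv_eq_one]
    exact e
  map_mul x hx y hy := by rw [h.map_mul x hx y hy, _root_.map_mul]

theorem map_qSub (f : G →* G') : qSub (fun x => f (φ x)) = (qSub φ).map f := by
  rw [qSub, qSub, MonoidHom.map_closure, Set.image_image]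

/-- Lift a parametrisation along the inclusion of a subgroup. -/
noncomputable def resFun (N : Subgroup G) (φ : ℕ → G) (x : ℕ) : ↥N :=
  haveI := Classical.dec (φ x ∈ N)
  if hx : φ x ∈ N then ⟨φ x, hx⟩ else 1

theorem resFun_coe {N : Subgroup G} {x : ℕ} (hx : φ x ∈ N) : ((resFun N φ x : ↥N) : G) = φ x := by
  rw [resFun, dif_pos hx]

theorem SylData.res (h : SylData S φ) {N : Subgroup G} (hN : S ≤ N) :
    SylData (S.subgroupOf N) (resFun N φ) where
  mem x hx := by rw [mem_subgroupOf, resFun_coe (hN (h.mem x hx))]; exact h.mem x hx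
  surj g hg := by
    obtain ⟨x, hx, e⟩ := h.surj (g : G) hg
    exact ⟨x, hx, Subtype.ext (by rw [resFun_coe (hN (h.mem x hx)), e])⟩
  inj x hx y hy e := by
    have := congrArg Subtype.val e
    rw [resFun_coe (hN (h.mem x hx)), resFun_coe (hN (h.mem y hy))] at this
    exact h.inj x hx y hy this
  map_mul x hx y hy := Subtype.ext (by
    rw [Subgroup.coe_mul, resFun_coe (hN (h.mem x hx)), resFun_coe (hN (h.mem y hy)),
      resFun_coe (hN (h.mem _ (mul_lt hx hy))), h.map_mul x hx y hy])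

theorem SylData.mem_qSub_res (h : SylData S φ) {N : Subgroup G} (hN : S ≤ N) {g : ↥N} :
    g ∈ qSub (resFun N φ) ↔ (g : G) ∈ qSub φ := by
  rw [(h.res hN).mem_qSub_iff, h.mem_qSub_iff]
  constructor
  · rintro ⟨x, hx, rfl⟩
    exact ⟨x, hx, (resFun_coe (hN (h.mem x (by omega)))).symm⟩
  · rintro ⟨x, hx, e⟩
    exact ⟨x, hx, Subtype.ext ((resFun_coe (hN (h.mem x (by omega)))).trans e)⟩

end Cfsg.Agent.Lib.SylJ2Type51
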